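import Cfsg.Agent.H577.GLB.Real
import Cfsg.Agent.H577.GLB.StdCount
import Cfsg.Agent.H623.GLn.Cop
import Cfsg.Agent.H623.GLn.Real
import Cfsg.Agent.H624.Sl.Defs
import Cfsg.Agent.H139.Cusp.Theta
import Cfsg.Agent.H623.GLn.D4R_mg
import Cfsg.Agent.H112.GLB.Abs
import Cfsg.Agent.H505.S4536.Ext
import Cfsg.Agent.H76.GLB.ProdBlk
import Cfsg.Agent.H901.Sl.JJ
import Cfsg.Agent.H157.GLB.DG
import Cfsg.Agent.H614.GLn.GB1
import Cfsg.Agent.H577.GLB.Lab
import Cfsg.Agent.H614.GLn.LabHom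
import Cfsg.Agent.H112.GLB.Gb3
import Cfsg.Agent.H157.GLB.DA
import Cfsg.Agent.S0928
import Cfsg.Agent.H614.GLn.RSTau
import Cfsg.Agent.H648.HarrisKnorr
import Cfsg.Agent.S0917
set_option linter.all false

-- part: H583/GLn/Cusp
section
/-!
# S4536, D4-E: the cuspidal irreducible characters (helper583, task 5825)
-/

set_option autoImplicit false
set_option linter.unusedSectionVars false

open Polynomial Cfsg
open scoped ComplexConjugate TensorProduct MatrixGroups

namespace Cfsg.Agent.H583.GLn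

open Cfsg.Agent.H614.GLn Cfsg.Agent.H577.GLB.Std Cfsg.Agent.H624.Sl Cfsg.Agent.H623.GLn
open Cfsg.Agent.H577.GLB.Real (Om coP PhiF evA)
open Cfsg.Agent.H139.Cusp (kap kap_one isIrr_sign degP degP_pos)

universe u v

attribute [local instance] Cfsg.Agent.H139.Cusp.fintypeHom Cfsg.Agent.H139.Cusp.fintypeSub
  Cfsg.Agent.H139.Cusp.finite_quot

section

variable {F : Type u} [Field F] {K : Type u} [Field K] [Algebra F K] {θ : K →*₀ ℂ} {N M : ℕ} [NeZero M]

theorem iterate_mul {R : Type*} [CommRing R] (q c : R) (n : ℕ) : (fun x : R => q * x)^[n] c = q ^ n * c := by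
  induction n with
  | zero => rw [Function.iterate_zero_apply, pow_zero, one_mul]
  | succ n ih => rw [Function.iterate_succ_apply', ih, pow_succ', mul_assoc]

theorem torZ_of_per {Q : ℤ} {k : ℕ} {c : ZMod M} (hc : perZ Q M c = k) : TorZ Q M k c := by
  have h1 : (fun x : ZMod M => (Q : ZMod M) * x)^[k] c = c := by
    rw [← hc]
    exact Function.iterate_minimalPeriod
  rw [iterate_mul] at h1
  rw [TorZ, sub_mul, h1, one_mul, sub_self]

theorem lba_X_sub_one (a : ℕ) : lba (F := F) θ a (X - 1 : F[X]) = 1 := by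
  rw [lba, Polynomial.map_sub, Polynomial.map_X, Polynomial.map_one, ← C_1, roots_X_sub_C,
    Multiset.map_singleton, Multiset.sum_singleton, if_neg one_ne_zero, map_one, one_pow]

/-- D4-E: the cuspidal irreducible characters -/
theorem exists_cusp [Finite F] (hctx : Ctx F θ N M) {k : ℕ} (hk : 0 < k) (hkN : k ≤ N) (c : ZMod M)
    (hc : perZ (Nat.card F) M c = k) :
    ∃ χ : IrrCharacter (GL (Fin k) F), IsCusp (χ : GL (Fin k) F → ℂ) ∧
      ∀ g, (χ : GL (Fin k) F → ℂ) g = (-1) ^ (k - 1) * Om (F := F) θ M k (rv (Nat.card F) M k c) g := by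
  classical
  have := hctx.finK
  have := Fintype.ofFinite (GL (Fin k) F)
  have hTor : TorZ (Nat.card F : ℤ) M k c := torZ_of_per hc
  obtain ⟨a, ha⟩ : ∃ a, a = expo (Nat.card F) M k c := ⟨_, rfl⟩
  have hfn : ∀ g : GL (Fin k) F, Om (F := F) θ M k (rv (Nat.card F) M k c) g =
      (Rf (F := F) θ k a).fn (Fin k → F) (Matrix.toLin' (g : Matrix (Fin k) (Fin k) F)) := by
    intro g
    have h1 := piA_rv hctx hk hkN hTor
    rw [Om, piA_eq, h1, Rc, ha]
  have hval : ∀ g : GL (Fin k) F, Om (F := F) θ M k (rv (Nat.card F) M k c) g =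
      kap (lba (F := F) θ a) (Matrix.toLin' g.1) ⊤ := by
    intro g
    rw [hfn, Rf, comp_fn, if_pos (Module.finrank_fin_fun F), kapF_fn]
  -- a generalized character
  have hgen : IsGeneralizedCharacter (GL (Fin k) F) (Om (F := F) θ M k (rv (Nat.card F) M k c)) := by
    have h1 := Cfsg.Agent.H941.GLn.isVC_Rf (F := F) (θ := θ) hctx.inj (k := k)
      (fun h hh hd => hctx.spl h hh (hd.trans hkN)) a (Fin k → F)
    have h2 := Cfsg.Agent.H139.Cusp.isGeneralizedCharacter_comp
      (Matrix.GeneralLinearGroup.toLin : GL (Fin k) F ≃* _).toMonoidHom h1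
    have h3 : (Om (F := F) θ M k (rv (Nat.card F) M k c)) = fun g : GL (Fin k) F =>
        (Rf (F := F) θ k a).fn (Fin k → F)
          ((Matrix.GeneralLinearGroup.toLin g : ((Fin k → F) →ₗ[F] (Fin k → F))ˣ) : (Fin k → F) →ₗ[F] (Fin k → F)) :=
      funext fun g => hfn g
    rw [h3]
    exact h2
  -- the norm
  have hnorm : classInner (Om (F := F) θ M k (rv (Nat.card F) M k c)) (Om (F := F) θ M k (rv (Nat.card F) M k c)) = 1 := by
    have h1 : (Om (F := F) θ M k (rv (Nat.card F) M k c)) = fun g : GL (Fin k) F =>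
        (Rf (F := F) θ k a).fn (Fin k → F) (Matrix.toLin' (g : Matrix (Fin k) (Fin k) F)) := funext hfn
    rw [h1, ip_eq_classInner, ip_Rf hctx hk hkN]
    have hq : 2 ≤ Nat.card F := Finite.one_lt_card
    have h2 : ((Finset.range k).filter fun j => a ≡ a * Nat.card F ^ j [MOD (Nat.card F ^ k - 1)]) = {0} := by
      ext j
      rw [Finset.mem_filter, Finset.mem_range, Finset.mem_singleton]
      constructor
      · rintro ⟨hj, h3⟩
        rw [ha, expo_modEq hq hk hTor hTor j] at h3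
        by_contra h0
        have h4 : Function.IsPeriodicPt (fun x : ZMod M => ((Nat.card F : ℤ) : ZMod M) * x) j c := by
          unfold Function.IsPeriodicPt Function.IsFixedPt
          rw [iterate_mul, Int.cast_natCast]
          exact h3.symm
        have h5 := h4.minimalPeriod_le (Nat.pos_of_ne_zero h0)
        change perZ (Nat.card F) M c ≤ j at h5
        omega
      · rintro rfl
        refine ⟨hk, ?_⟩
        rw [pow_zero, mul_one]
    rw [h2, Finset.card_singleton, Nat.cast_one]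
  -- the degree
  have hone : Om (F := F) θ M k (rv (Nat.card F) M k c) 1 = (-1) ^ (k - 1) * (degP (Nat.card F) k : ℂ) := by
    have hq : 2 ≤ Nat.card F := Finite.one_lt_card
    have h1 := kap_one (F := F) (lba (F := F) θ a) (lba_add θ a) (k - 1) (Fin k → F)
      (by rw [Module.finrank_fin_fun F]; omega)
    have h2 : Matrix.toLin' ((1 : GL (Fin k) F).1) = (1 : (Fin k → F) →ₗ[F] (Fin k → F)) := Matrix.toLin'_one
    rw [hval, h2, h1, lba_X_sub_one, one_mul]
    have h3 : ((-1 : ℂ)) ^ (k - 1) = ∏ _j ∈ Finset.range (k - 1), (-1 : ℂ) := by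
      rw [Finset.prod_const, Finset.card_range]
    rw [h3, degP, Nat.cast_prod, ← Finset.prod_mul_distrib]
    refine Finset.prod_congr rfl fun i _ => ?_
    rw [Nat.cast_sub (Nat.one_le_pow _ _ (by omega))]
    push_cast
    ring
  have hirr := isIrr_sign hgen hnorm (degP_pos (Finite.one_lt_card : 1 < Nat.card F) k) hone
  refine ⟨⟨_, hirr⟩, ⟨lba (F := F) θ a, lba_add θ a, lba_X_sub_one a, fun g => ?_⟩, fun g => rfl⟩
  change (-1) ^ (k - 1) * Om (F := F) θ M k (rv (Nat.card F) M k c) g = _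
  rw [hval]

end

end Cfsg.Agent.H583.GLn
end

-- part: H111/GLExt/Lba
section
/-!
# S4536 (R6b), part 1: the characteristic polynomial of `z u` over the small field (helper111)

`E / F` finite fields, `z ∈ E`, `u` an `E`-linear map: if `θ(z)^a = 1` the sum of the `θ(y)^a` over the nonzero
roots `y` of the characteristic polynomial over `F` of `z u` is the sum over `i < [E : F]` of the sums of the
`θ(x)^(a q^i)` over the nonzero roots `x` of the characteristic polynomial over `E` of `u`.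
-/

set_option autoImplicit false

open Polynomial
open Cfsg.Agent.H614.GLn
open Cfsg.Agent.H139.Cusp

namespace Cfsg.Agent.H111.GLExt

universe u v w

/-! ### sums over periods -/

theorem per_mul {d : ℕ} {g : ℕ → ℂ} (hg : ∀ i, g (i + d) = g i) (m i : ℕ) : g (d * m + i) = g i := by
  induction m with
  | zero => rw [Nat.mul_zero, Nat.zero_add]
  | succ m ih => rw [Nat.mul_succ, add_right_comm, hg, ih]

theorem sum_period {d : ℕ} {g : ℕ → ℂ} (hg : ∀ i, g (i + d) = g i) (m : ℕ) :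
    ∑ i ∈ Finset.range (d * m), g i = m * ∑ i ∈ Finset.range d, g i := by
  induction m with
  | zero => simp
  | succ m ih =>
    rw [Nat.mul_succ, Finset.sum_range_add, ih, Nat.cast_succ, add_mul, one_mul]
    congr 1
    exact Finset.sum_congr rfl fun i _ => per_mul hg m i

theorem sum_double (f d : ℕ) (g : ℕ → ℂ) :
    ∑ i ∈ Finset.range f, ∑ j ∈ Finset.range d, g (i + f * j) = ∑ t ∈ Finset.range (f * d), g t := by
  induction d with
  | zero => simp
  | succ d ih =>
    rw [Nat.mul_succ, Finset.sum_range_add, ← ih, ← Finset.sum_add_distrib]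
    refine Finset.sum_congr rfl fun i _ => ?_
    rw [Finset.sum_range_succ, add_comm i (f * d)]

/-! ### restriction of scalars -/

section scal

variable {F : Type u} [Field F] {E : Type u} [Field E] [Algebra F E]
variable {V : Type v} [AddCommGroup V] [Module F V] [Module E V] [IsScalarTower F E V]

theorem pow_restrictScalars (S : V →ₗ[E] V) (n : ℕ) (v : V) : (S.restrictScalars F ^ n) v = (S ^ n) v := by
  rw [Module.End.pow_apply, Module.End.pow_apply]
  rfl

theorem aeval_restrictScalars (S : V →ₗ[E] V) (g : F[X]) (v : V) :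
    aeval (S.restrictScalars F) g v = aeval S (g.map (algebraMap F E)) v := by
  induction g using Polynomial.induction_on' with
  | add p q hp hq =>
    rw [Polynomial.map_add, map_add, map_add, LinearMap.add_apply, LinearMap.add_apply, hp, hq]
  | monomial n a =>
    rw [Polynomial.map_monomial, aeval_monomial, aeval_monomial, Module.End.mul_apply, Module.End.mul_apply,
      Module.algebraMap_end_apply, Module.algebraMap_end_apply, pow_restrictScalars, algebraMap_smul]

/-- a subspace as a subspace over the small field -/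
def subE (F : Type u) [Field F] {E : Type u} [Field E] [Algebra F E] {V : Type v} [AddCommGroup V] [Module F V]
    [Module E V] [IsScalarTower F E V] (W : Submodule E V) : (W.restrictScalars F) ≃ₗ[F] W where
  toFun x := ⟨x.1, x.2⟩
  invFun x := ⟨x.1, x.2⟩
  map_add' _ _ := rfl
  map_smul' _ _ := rfl
  left_inv _ := rfl
  right_inv _ := rfl

/-- the quotient over the small field -/
noncomputable def quoE (F : Type u) [Field F] {E : Type u} [Field E] [Algebra F E] {V : Type v} [AddCommGroup V]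
    [Module F V] [Module E V] [IsScalarTower F E V] (W : Submodule E V) :
    (V ⧸ W.restrictScalars F) ≃ₗ[F] (V ⧸ W) := Submodule.Quotient.restrictScalarsEquiv F W

theorem stable_of {z : E} {u : V →ₗ[E] V} {W : Submodule E V} (h : W ≤ W.comap u) :
    W.restrictScalars F ≤ (W.restrictScalars F).comap ((z • u).restrictScalars F) := fun _ hx =>
  W.smul_mem z (h hx)

theorem sub_comm {z : E} {u : V →ₗ[E] V} {W : Submodule E V} (h : W ≤ W.comap u)
    (h' : W.restrictScalars F ≤ (W.restrictScalars F).comap ((z • u).restrictScalars F)) (x : W.restrictScalars F) :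
    ((z • u.restrict h).restrictScalars F) (subE F W x) =
      subE F W (((z • u).restrictScalars F).restrict h' x) := rfl

theorem quo_comm {z : E} {u : V →ₗ[E] V} {W : Submodule E V} (h : W ≤ W.comap u)
    (h' : W.restrictScalars F ≤ (W.restrictScalars F).comap ((z • u).restrictScalars F))
    (x : V ⧸ W.restrictScalars F) :
    ((z • W.mapQ W u h).restrictScalars F) (quoE F W x) =
      quoE F W ((W.restrictScalars F).mapQ (W.restrictScalars F) ((z • u).restrictScalars F) h' x) := by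
  obtain ⟨v, rfl⟩ := (W.restrictScalars F).mkQ_surjective x
  rfl

end scal

/-! ### characteristic polynomials -/

theorem charpoly_pow {F : Type u} [Field F] [Finite F] {V : Type v} [AddCommGroup V] [Module F V] [Finite V]
    {f : F[X]} (hf : f.Monic) (hirr : Irreducible f) {g : V →ₗ[F] V} (h0 : aeval g f = 0) :
    ∃ m, g.charpoly = f ^ m ∧ Module.finrank F V = f.natDegree * m := by
  have : Fact (Irreducible f) := ⟨hirr⟩
  obtain ⟨hm, hst, hg⟩ := exists_module h0
  have h1 : g.charpoly = f ^ Module.finrank (AdjoinRoot f) V := by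
    rw [← hg]; exact charpoly_rsm f hf _ V rfl
  refine ⟨_, h1, ?_⟩
  rw [← LinearMap.charpoly_natDegree g, h1, hf.natDegree_pow, mul_comm]

section lba

variable {F : Type u} [Field F] {K : Type w} [Field K] [Algebra F K] {θ : K →*₀ ℂ}

theorem lba_one (a : ℕ) : lba (F := F) θ a 1 = 0 := by
  rw [lba, Polynomial.map_one, roots_one]
  simp

theorem lba_pow (a : ℕ) {f : F[X]} (hf : f.Monic) (m : ℕ) : lba θ a (f ^ m) = m * lba θ a f := by
  induction m with
  | zero => rw [pow_zero, lba_one, Nat.cast_zero, zero_mul]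
  | succ m ih => rw [pow_succ, lba_add θ a _ _ (hf.pow m) hf, ih, Nat.cast_succ, add_mul, one_mul]

end lba

section main

variable {F : Type u} [Field F] [Finite F] {E : Type u} [Field E] [Finite E] [Algebra F E]
variable {K : Type w} [Field K] [Finite K] [Algebra F K] [Algebra E K] [IsScalarTower F E K] {θ : K →*₀ ℂ}

theorem lba_base {V : Type v} [AddCommGroup V] [Module F V] [Module E V] [IsScalarTower F E V] [Finite V]
    {z : E} (hz0 : z ≠ 0) {a : ℕ} (hz : θ (algebraMap E K z) ^ a = 1) {u : V →ₗ[E] V} {l : K}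
    (h0 : aeval u (minpoly E l) = 0) :
    lba θ a ((z • u).restrictScalars F).charpoly =
      ∑ i ∈ Finset.range (Module.finrank F E), lba θ (a * Nat.card F ^ i) u.charpoly := by
  classical
  have hzK : algebraMap E K z ≠ 0 := by
    rw [Ne, map_eq_zero]; exact hz0
  have hintE : IsIntegral E l := integral_of_finite l
  have hintF : IsIntegral F (algebraMap E K z * l) := integral_of_finite _
  have hg : aeval ((z • u).restrictScalars F) (minpoly F (algebraMap E K z * l)) = 0 := by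
    apply LinearMap.ext
    intro v
    rw [aeval_restrictScalars]
    have h1 : aeval (z • u) ((minpoly F (algebraMap E K z * l)).map (algebraMap F E)) =
        aeval u (((minpoly F (algebraMap E K z * l)).map (algebraMap F E)).comp (C z * X)) := by
      rw [aeval_comp, map_mul, aeval_C, aeval_X]
      rfl
    have h2 : minpoly E l ∣ ((minpoly F (algebraMap E K z * l)).map (algebraMap F E)).comp (C z * X) := by
      apply minpoly.dvd
      rw [aeval_comp, map_mul, aeval_C, aeval_X, aeval_map_algebraMap, minpoly.aeval]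
    obtain ⟨c, hc⟩ := h2
    rw [h1, hc, map_mul, h0, zero_mul, LinearMap.zero_apply, LinearMap.zero_apply]
  obtain ⟨m, hm, hm'⟩ := charpoly_pow (minpoly.monic hintF) (minpoly.irreducible hintF) hg
  obtain ⟨n, hn, hn'⟩ := charpoly_pow (minpoly.monic hintE) (minpoly.irreducible hintE) h0
  rw [hm, hn, lba_pow a (minpoly.monic hintF)]
  have eE : ∀ i, lba θ (a * Nat.card F ^ i) (minpoly E l ^ n) = n * (if l = 0 then 0 else
      ∑ j ∈ Finset.range (minpoly E l).natDegree, (θ l ^ (a * Nat.card F ^ i)) ^ (Nat.card E ^ j)) := fun i => by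
    rw [lba_pow _ (minpoly.monic hintE), H623.GLn.lba_minpoly]
  have eF : lba θ a (minpoly F (algebraMap E K z * l)) = if l = 0 then 0 else
      ∑ i ∈ Finset.range (minpoly F (algebraMap E K z * l)).natDegree,
        (θ (algebraMap E K z * l) ^ a) ^ (Nat.card F ^ i) := by
    rw [H623.GLn.lba_minpoly]
    by_cases hl : l = 0
    · rw [if_pos hl, if_pos (by rw [hl, mul_zero])]
    · rw [if_neg hl, if_neg (mul_ne_zero hzK hl)]
  rw [eF]
  simp only [eE]
  by_cases hl : l = 0
  · simp only [if_pos hl, mul_zero, Finset.sum_const_zero]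
  · simp only [if_neg hl]
    rw [← Finset.mul_sum]
    have hE : Nat.card E = Nat.card F ^ Module.finrank F E := Module.natCard_eq_pow_finrank
    have e1 : θ (algebraMap E K z * l) ^ a = θ l ^ a := by rw [map_mul, mul_pow, hz, one_mul]
    have e2 : ∀ i j : ℕ, (θ l ^ (a * Nat.card F ^ i)) ^ (Nat.card E ^ j) =
        (θ l ^ a) ^ (Nat.card F ^ (i + Module.finrank F E * j)) := by
      intro i j
      rw [hE, ← pow_mul, ← pow_mul, ← pow_mul, pow_add, pow_mul (Nat.card F), mul_assoc]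
    have e3 : ∑ i ∈ Finset.range (Module.finrank F E), ∑ j ∈ Finset.range (minpoly E l).natDegree,
        (θ l ^ (a * Nat.card F ^ i)) ^ (Nat.card E ^ j) =
        ∑ t ∈ Finset.range (Module.finrank F E * (minpoly E l).natDegree), (θ l ^ a) ^ (Nat.card F ^ t) := by
      rw [← sum_double (Module.finrank F E) (minpoly E l).natDegree fun t => (θ l ^ a) ^ (Nat.card F ^ t)]
      exact Finset.sum_congr rfl fun i _ => Finset.sum_congr rfl fun j _ => e2 i j
    rw [e3, e1]
    have p1 : ∀ i, (θ l ^ a) ^ (Nat.card F ^ (i + (minpoly F (algebraMap E K z * l)).natDegree)) =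
        (θ l ^ a) ^ (Nat.card F ^ i) := by
      intro i
      have h3 : (algebraMap E K z * l) ^ (Nat.card F ^ (minpoly F (algebraMap E K z * l)).natDegree) =
          algebraMap E K z * l := (pow_eq_self_iff (F := F) _ _).2 dvd_rfl
      rw [← e1, add_comm, pow_add, pow_mul, ← map_pow, ← map_pow, ← pow_mul, mul_comm a, pow_mul, h3]
    have p2 : ∀ i, (θ l ^ a) ^ (Nat.card F ^ (i + Module.finrank F E * (minpoly E l).natDegree)) =
        (θ l ^ a) ^ (Nat.card F ^ i) := by
      intro i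
      have h3 : l ^ (Nat.card E ^ (minpoly E l).natDegree) = l := (pow_eq_self_iff (F := E) l _).2 dvd_rfl
      rw [hE, ← pow_mul] at h3
      rw [add_comm, pow_add, pow_mul, ← map_pow, ← map_pow, ← pow_mul, mul_comm a, pow_mul, h3]
    rw [← sum_period p1 m, ← sum_period p2 n]
    congr 2
    rw [← hm', mul_assoc, ← hn', Module.finrank_mul_finrank]

/-- **the characteristic polynomial of `z u` over the small field** -/
theorem lba_ext {z : E} (hz0 : z ≠ 0) {a : ℕ} (hz : θ (algebraMap E K z) ^ a = 1) (n : ℕ) :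
    ∀ (V : Type v) [AddCommGroup V] [Module F V] [Module E V] [IsScalarTower F E V] [Finite V]
      (_ : Module.finrank E V = n)
      (_ : ∀ h : E[X], h.Monic → h.natDegree ≤ n → (h.map (algebraMap E K)).Splits) (u : V →ₗ[E] V),
    lba θ a ((z • u).restrictScalars F).charpoly =
      ∑ i ∈ Finset.range (Module.finrank F E), lba θ (a * Nat.card F ^ i) u.charpoly := by
  induction n using Nat.strong_induction_on with
  | _ n ih =>
    intro V _ _ _ _ _ hV hs u
    rcases subsingleton_or_nontrivial V with hsub | hnt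
    · have h1 : ∀ g : V →ₗ[F] V, g.charpoly = 1 := fun g => by
        refine eq_one_of_monic_natDegree_zero (LinearMap.charpoly_monic _) ?_
        rw [LinearMap.charpoly_natDegree]
        exact Module.finrank_zero_of_subsingleton
      have h2 : ∀ g : V →ₗ[E] V, g.charpoly = 1 := fun g => by
        refine eq_one_of_monic_natDegree_zero (LinearMap.charpoly_monic _) ?_
        rw [LinearMap.charpoly_natDegree]
        exact Module.finrank_zero_of_subsingleton
      rw [h1, h2, lba_one]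
      exact (Finset.sum_eq_zero fun i _ => lba_one _).symm
    have hnu : ¬ IsUnit u.charpoly := by
      intro h
      have h1 := (LinearMap.charpoly_monic u).eq_one_of_isUnit h
      have h2 := LinearMap.charpoly_natDegree u
      rw [h1, natDegree_one] at h2
      exact (Module.finrank_pos (R := E) (M := V)).ne h2
    obtain ⟨h, hm, hirr, hd⟩ := exists_monic_irreducible_factor _ hnu
    have hdeg : h.natDegree ≤ n := by
      rw [← hV, ← LinearMap.charpoly_natDegree u]
      exact natDegree_le_of_dvd hd (LinearMap.charpoly_monic u).ne_zero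
    obtain ⟨l, hl⟩ := H623.GLn.exists_root (K := K) hm hirr (hs h hm hdeg)
    set W := LinearMap.ker (aeval u h) with hWdef
    have hW : W ≤ W.comap u := ker_aeval_inv u h
    have hW0 : W ≠ ⊥ := ker_aeval_ne_bot hirr hd
    have h0 := stable_of (F := F) (z := z) hW
    have : Finite (V ⧸ W) := finite_quot W
    have : Finite (V ⧸ W.restrictScalars F) := finite_quot _
    have c1 := charpoly_eq_mul W u hW
    have c2 := charpoly_eq_mul (W.restrictScalars F) ((z • u).restrictScalars F) h0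
    have c3 := charpoly_conj_eq (subE F W) (sub_comm hW h0)
    have c4 := charpoly_conj_eq (quoE F W) (quo_comm hW h0)
    have hWu : aeval (u.restrict hW : W →ₗ[E] W) (minpoly E l) = 0 := by
      apply LinearMap.ext
      intro x
      apply Subtype.ext
      rw [aeval_restrict hW, ← hl]
      exact x.2
    have hdim : Module.finrank E (V ⧸ W) < n := by
      have h3 := Submodule.finrank_quotient_add_finrank W
      have h4 : 0 < Module.finrank E W := by
        rw [Module.finrank_pos_iff]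
        exact Submodule.nontrivial_iff_ne_bot.2 hW0
      omega
    have b1 := lba_base (F := F) (θ := θ) hz0 hz (u := (u.restrict hW : W →ₗ[E] W)) hWu
    have b2 := ih _ hdim (V ⧸ W) rfl (fun g hg hg' => hs g hg (hg'.trans hdim.le)) (W.mapQ W u hW)
    rw [c2, lba_add θ a _ _ (LinearMap.charpoly_monic _) (LinearMap.charpoly_monic _), ← c3, ← c4, b1, b2,
      ← Finset.sum_add_distrib]
    refine Finset.sum_congr rfl fun i _ => ?_
    rw [c1, lba_add θ _ _ _ (LinearMap.charpoly_monic _) (LinearMap.charpoly_monic _)]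

end main

end Cfsg.Agent.H111.GLExt
end

-- part: H111/GLExt/Ext
section
/-!
# S4536 (R6b): restriction of scalars and translation by a `p`-element generating the extension (helper111)

* `exists_stable` : the subspaces over `F` stable under `z u` are the subspaces over `E` stable under `u`;
* `Cmp.mul` : the comparison of families is compatible with the products;
* `kap_ext` : the comparison of the Möbius inversions;
* `ev_ext` : the theorem.
-/

set_option autoImplicit false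

open Polynomial
open Cfsg.Agent.H614.GLn
open Cfsg.Agent.H139.Cusp

namespace Cfsg.Agent.H111.GLExt

universe u v w

/-! ### stable subspaces -/

section stab

variable {F : Type u} [Field F] {E : Type u} [Field E] [Algebra F E]
variable {V : Type v} [AddCommGroup V] [Module F V] [Module E V] [IsScalarTower F E V]

/-- `z` is a `p`-element generating `E` over `F` -/
structure Ext (F : Type u) [Field F] {E : Type u} [Field E] [Algebra F E] (p : ℕ) (z : E) : Prop where
  ne : z ≠ 0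
  pow : ∃ j, z ^ p ^ j = 1
  gen : Algebra.adjoin F ({z} : Set E) = ⊤

theorem exists_exp {p : ℕ} {z : E} (h : Ext F p z) {u : V →ₗ[E] V} {k : ℕ} (hk : k.Coprime p) (hu : u ^ k = 1) :
    ∃ m : ℕ, ∀ v : V, (((z • u).restrictScalars F : V →ₗ[F] V) ^ m) v = z • v := by
  obtain ⟨j, hz⟩ := h.pow
  obtain ⟨m, h1, h2⟩ := Nat.chineseRemainder (Nat.Coprime.pow_left j hk.symm) 1 0
  refine ⟨m, fun v => ?_⟩
  rw [pow_restrictScalars, _root_.smul_pow, pow_eq_pow_of_modEq h1 hz, pow_one, pow_eq_pow_of_modEq h2 hu, pow_zero]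
  rfl

theorem exists_stable {p : ℕ} {z : E} (h : Ext F p z) {u : V →ₗ[E] V} {k : ℕ} (hk : k.Coprime p) (hu : u ^ k = 1)
    {W : Submodule F V} (hW : W ≤ W.comap ((z • u).restrictScalars F)) :
    ∃ W' : Submodule E V, W' ≤ W'.comap u ∧ W'.restrictScalars F = W := by
  obtain ⟨m, hm⟩ := exists_exp h hk hu
  have h1 : ∀ (n : ℕ), ∀ v ∈ W, (((z • u).restrictScalars F : V →ₗ[F] V) ^ n) v ∈ W := by
    intro n
    induction n with
    | zero => intro v hv; rw [pow_zero]; exact hv
    | succ n ih => intro v hv; rw [pow_succ', Module.End.mul_apply]; exact hW (ih v hv)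
  have h2 : ∀ v ∈ W, z • v ∈ W := fun v hv => by rw [← hm]; exact h1 m v hv
  have h3 : ∀ (e : E), ∀ v ∈ W, e • v ∈ W := by
    intro e
    have he : e ∈ Algebra.adjoin F ({z} : Set E) := by rw [h.gen]; exact Algebra.mem_top
    induction he using Algebra.adjoin_induction with
    | mem x hx => rw [Set.mem_singleton_iff] at hx; rw [hx]; exact h2
    | algebraMap r => intro v hv; rw [algebraMap_smul]; exact W.smul_mem r hv
    | add x y _ _ hx hy => intro v hv; rw [add_smul]; exact W.add_mem (hx v hv) (hy v hv)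
    | mul x y _ _ hx hy => intro v hv; rw [mul_smul]; exact hx _ (hy v hv)
  refine ⟨{ W with smul_mem' := fun e v hv => h3 e v hv }, ?_, ?_⟩
  · intro v hv
    have h4 : u v = z⁻¹ • ((z • u).restrictScalars F v) := by
      show u v = z⁻¹ • (z • u v)
      rw [smul_smul, inv_mul_cancel₀ h.ne, one_smul]
    show u v ∈ W
    rw [h4]
    exact h3 _ _ (hW hv)
  · exact SetLike.coe_injective rfl

theorem stable_iff {p : ℕ} {z : E} (h : Ext F p z) {u : V →ₗ[E] V} (W : Submodule E V) :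
    W.restrictScalars F ≤ (W.restrictScalars F).comap ((z • u).restrictScalars F) ↔ W ≤ W.comap u := by
  refine ⟨fun h1 v hv => ?_, stable_of⟩
  have h4 : u v = z⁻¹ • ((z • u).restrictScalars F v) := by
    show u v = z⁻¹ • (z • u v)
    rw [smul_smul, inv_mul_cancel₀ h.ne, one_smul]
  show u v ∈ W
  rw [h4]
  exact W.smul_mem _ (h1 hv)

theorem restrict_pow' {u : V →ₗ[E] V} {W : Submodule E V} (h : W ≤ W.comap u) {k : ℕ} (hu : u ^ k = 1) :
    (u.restrict h : W →ₗ[E] W) ^ k = 1 := by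
  have h1 : ∀ (n : ℕ) (x : W), (((u.restrict h : W →ₗ[E] W) ^ n) x : V) = (u ^ n) x := by
    intro n
    induction n with
    | zero => intro x; rfl
    | succ n ih =>
      intro x
      rw [pow_succ', pow_succ', Module.End.mul_apply, Module.End.mul_apply, ← ih]
      rfl
  apply LinearMap.ext
  intro x
  apply Subtype.ext
  rw [h1, hu]
  rfl

theorem mapQ_pow' {u : V →ₗ[E] V} {W : Submodule E V} (h : W ≤ W.comap u) {k : ℕ} (hu : u ^ k = 1) :
    (W.mapQ W u h) ^ k = 1 := by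
  have h1 : ∀ (n : ℕ) (x : V), ((W.mapQ W u h) ^ n) (W.mkQ x) = W.mkQ ((u ^ n) x) := by
    intro n
    induction n with
    | zero => intro x; rfl
    | succ n ih =>
      intro x
      rw [pow_succ', pow_succ', Module.End.mul_apply, Module.End.mul_apply, ih]
      rfl
  apply LinearMap.ext
  intro x
  obtain ⟨v, rfl⟩ := W.mkQ_surjective x
  rw [h1, hu]
  rfl

end stab

/-! ### the comparison of families -/

section cmp

variable {F : Type u} [Field F] {E : Type u} [Field E] [Algebra F E]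

/-- the values of `f` at `z u` are the values of `g` at `u`, for `u` of order prime to `p` -/
def Cmp (N p : ℕ) (z : E) (f : Fam F) (g : Fam E) : Prop :=
  ∀ (V : Type u) [AddCommGroup V] [Module F V] [Module E V] [IsScalarTower F E V] [Finite V],
    Module.finrank F V ≤ N → ∀ (u : V →ₗ[E] V) (k : ℕ), k.Coprime p → u ^ k = 1 →
      f.fn V ((z • u).restrictScalars F) = g.fn V u

variable {N p : ℕ} {z : E}

theorem Cmp.add {f f' : Fam F} {g g' : Fam E} (h : Cmp N p z f g) (h' : Cmp N p z f' g') :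
    Cmp N p z (f + f') (g + g') := by
  intro V _ _ _ _ _ hV u k hk hu
  show f.fn V _ + f'.fn V _ = g.fn V _ + g'.fn V _
  rw [h V hV u k hk hu, h' V hV u k hk hu]

theorem Cmp.smul (c : ℂ) {f : Fam F} {g : Fam E} (h : Cmp N p z f g) : Cmp N p z (c • f) (c • g) := by
  intro V _ _ _ _ _ hV u k hk hu
  show c * f.fn V _ = c * g.fn V _
  rw [h V hV u k hk hu]

theorem Cmp.one : Cmp N p z (1 : Fam F) (1 : Fam E) := by
  intro V _ _ _ _ _ hV u k hk hu
  rfl

theorem Cmp.zero : Cmp N p z (0 : Fam F) (0 : Fam E) := by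
  intro V _ _ _ _ _ hV u k hk hu
  rfl

/-- **the comparison is compatible with the products** -/
theorem Cmp.mul (hz : Ext F p z) {f f' : Fam F} {g g' : Fam E} (h : Cmp N p z f g) (h' : Cmp N p z f' g') :
    Cmp N p z (f * f') (g * g') := by
  intro V _ _ _ _ _ hV u k hk hu
  rw [Fam.mul_fn, Fam.mul_fn]
  have h1 : ∑ᶠ W : Submodule F V, f.term f' V ((z • u).restrictScalars F) W =
      ∑ᶠ W : Submodule E V, f.term f' V ((z • u).restrictScalars F) (W.restrictScalars F) := by
    rw [← finsum_mem_univ, ← finsum_mem_range (Submodule.restrictScalars_injective F E V)]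
    refine finsum_mem_inter_support_eq' _ _ _ ?_
    intro W hW
    refine ⟨fun _ => ?_, fun _ => Set.mem_univ _⟩
    have h2 : W ≤ W.comap ((z • u).restrictScalars F) := by
      by_contra h3
      exact hW (Fam.term_of_not h3)
    obtain ⟨W', -, hW'⟩ := exists_stable hz hk hu h2
    exact ⟨W', hW'⟩
  rw [h1]
  refine finsum_congr fun W => ?_
  by_cases hW : W ≤ W.comap u
  · have h0 := stable_of (F := F) (z := z) hW
    have : Finite (V ⧸ W) := finite_quot W
    have : Finite (V ⧸ W.restrictScalars F) := finite_quot _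
    rw [Fam.term_of h0, Fam.term_of hW, ← f.conj' (quoE F W) (quo_comm hW h0), ← f'.conj' (subE F W) (sub_comm hW h0)]
    congr 1
    · refine h (V ⧸ W) ?_ (W.mapQ W u hW) k hk (mapQ_pow' hW hu)
      rw [← (quoE F W).finrank_eq]
      exact (Submodule.finrank_quotient_le _).trans hV
    · refine h' W ?_ (u.restrict hW) k hk (restrict_pow' hW hu)
      rw [← (subE F W).finrank_eq]
      exact (Submodule.finrank_le _).trans hV
  · rw [Fam.term_of_not hW, Fam.term_of_not fun h2 => hW ((stable_iff hz W).1 h2)]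

end cmp

/-! ### the comparison of the Möbius inversions -/

section kap

attribute [local instance] fintypeHom fintypeSub finite_quot

variable {F : Type u} [Field F] [Finite F] {E : Type u} [Field E] [Finite E] [Algebra F E]
variable {K : Type w} [Field K] [Finite K] [Algebra F K] [Algebra E K] [IsScalarTower F E K] {θ : K →*₀ ℂ}

theorem kap_ext {V : Type u} [AddCommGroup V] [Module F V] [Module E V] [IsScalarTower F E V] [Finite V]
    {p : ℕ} {z : E} (hz : Ext F p z) {a : ℕ} (ha : θ (algebraMap E K z) ^ a = 1)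
    (hs : ∀ h : E[X], h.Monic → h.natDegree ≤ Module.finrank E V → (h.map (algebraMap E K)).Splits)
    {u : V →ₗ[E] V} {k : ℕ} (hk : k.Coprime p) (hu : u ^ k = 1) :
    kap (lba (F := F) θ a) ((z • u).restrictScalars F) ⊤ =
      ∑ i ∈ Finset.range (Module.finrank F E), kap (lba (F := E) θ (a * Nat.card F ^ i)) u ⊤ := by
  classical
  have key1 : kap (lba (F := F) θ a) ((z • u).restrictScalars F) ((⊤ : Submodule E V).restrictScalars F) =
      kap (fun h => ∑ i ∈ Finset.range (Module.finrank F E), lba (F := E) θ (a * Nat.card F ^ i) h) u ⊤ := by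
    refine kap_unique _ (g := u)
      (k := fun W => kap (lba (F := F) θ a) ((z • u).restrictScalars F) (W.restrictScalars F)) ?_ ?_ ⊤
    · intro W hW
      exact kap_of_not _ fun h => hW ((stable_iff hz W).1 h)
    · intro W hW
      have h0 := stable_of (F := F) (z := z) hW
      have c3 := charpoly_conj_eq (subE F W) (sub_comm hW h0)
      have h1 := lba_ext (F := F) (θ := θ) hz.ne ha (Module.finrank E W) W rfl
        (fun h hm hd => hs h hm (hd.trans (Submodule.finrank_le W))) (u.restrict hW)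
      rw [← h1, c3, ← kap_sum (lba (F := F) θ a) h0]
      refine Finset.sum_of_injOn (fun W' => W'.restrictScalars F)
        (Submodule.restrictScalars_injective F E V).injOn ?_ ?_ (fun _ _ => rfl)
      · intro W' hW'
        rw [Finset.mem_coe, Finset.mem_filter] at hW' ⊢
        exact ⟨Finset.mem_univ _, hW'.2⟩
      · intro W' hW' hW''
        by_contra h2
        have h3 : W' ≤ W'.comap ((z • u).restrictScalars F) := by
          by_contra h4
          exact h2 (kap_of_not _ h4)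
        obtain ⟨Y, -, hY⟩ := exists_stable hz hk hu h3
        apply hW''
        refine ⟨Y, ?_, hY⟩
        rw [Finset.mem_filter] at hW'
        rw [Finset.mem_coe, Finset.mem_filter]
        refine ⟨Finset.mem_univ _, ?_⟩
        rw [← hY] at hW'
        exact hW'.2
  have key2 : kap (fun h => ∑ i ∈ Finset.range (Module.finrank F E), lba (F := E) θ (a * Nat.card F ^ i) h) u ⊤ =
      ∑ i ∈ Finset.range (Module.finrank F E), kap (lba (F := E) θ (a * Nat.card F ^ i)) u ⊤ := by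
    symm
    refine kap_unique _ (g := u)
      (k := fun W => ∑ i ∈ Finset.range (Module.finrank F E), kap (lba (F := E) θ (a * Nat.card F ^ i)) u W) ?_ ?_ ⊤
    · intro W hW
      exact Finset.sum_eq_zero fun i _ => kap_of_not _ hW
    · intro W hW
      rw [Finset.sum_comm]
      exact Finset.sum_congr rfl fun i _ => kap_sum _ hW
  rw [← key2, ← key1]
  rfl

end kap

/-! ### the theorem -/

section main

open Cfsg.Agent.H577.GLB.Std Cfsg.Agent.H577.GLB.Real

variable {F : Type u} [Field F] {K : Type w} [Field K] [Algebra F K] {θ : K →*₀ ℂ} {N M : ℕ} [NeZero M]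
variable {E : Type u} [Field E] [Algebra F E] [Finite E] [Algebra E K] [IsScalarTower F E K]

theorem splits_irr (ctx : Ctx F θ N M) {g : E[X]} (hm : g.Monic) (hirr : Irreducible g)
    (hd : Module.finrank F E * g.natDegree ≤ N) : (g.map (algebraMap E K)).Splits := by
  have := ctx.finF
  have : Fact (Irreducible g) := ⟨hirr⟩
  have hfin : Module.Finite E (AdjoinRoot g) := (AdjoinRoot.powerBasis hirr.ne_zero).finite
  have hdim : Module.finrank E (AdjoinRoot g) = g.natDegree := by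
    rw [(AdjoinRoot.powerBasis hirr.ne_zero).finrank, AdjoinRoot.powerBasis_dim]
  have hfin' : Module.Finite F (AdjoinRoot g) := Module.Finite.trans E (AdjoinRoot g)
  have h1 : (minpoly F (AdjoinRoot.root g)).natDegree ≤ N := by
    refine (minpoly.natDegree_le _).trans ?_
    rw [← Module.finrank_mul_finrank F E (AdjoinRoot g), hdim]
    exact hd
  have h2 : minpoly E (AdjoinRoot.root g) = g := by
    rw [AdjoinRoot.minpoly_root hirr.ne_zero, hm.leadingCoeff, inv_one, C_1, mul_one]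
  have h3 := minpoly.dvd_map_of_isScalarTower F E (AdjoinRoot.root g)
  rw [h2] at h3
  have h4 := Polynomial.map_dvd (algebraMap E K) h3
  rw [Polynomial.map_map, ← IsScalarTower.algebraMap_eq F E K] at h4
  have hint : IsIntegral F (AdjoinRoot.root g) := IsIntegral.of_finite F _
  exact (ctx.spl _ (minpoly.monic hint) h1).of_dvd ((minpoly.monic hint).map _).ne_zero h4

theorem splits_ext (ctx : Ctx F θ N M) {n : ℕ} (hn : Module.finrank F E * n ≤ N) (d : ℕ) :
    ∀ h : E[X], h.Monic → h.natDegree ≤ n → h.natDegree = d → (h.map (algebraMap E K)).Splits := by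
  induction d using Nat.strong_induction_on with
  | _ d ih =>
    intro h hm hd hd'
    by_cases hu : IsUnit h
    · rw [hm.eq_one_of_isUnit hu, Polynomial.map_one]
      exact Splits.one
    obtain ⟨g, hgm, hirr, c, hc⟩ := exists_monic_irreducible_factor _ hu
    have hcm : c.Monic := hgm.of_mul_monic_left (by rw [← hc]; exact hm)
    have h1 : h.natDegree = g.natDegree + c.natDegree := by rw [hc, hgm.natDegree_mul hcm]
    have h2 : 0 < g.natDegree := hirr.natDegree_pos
    rw [hc, Polynomial.map_mul]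
    refine Splits.mul (splits_irr ctx hgm hirr ?_) (ih c.natDegree (by omega) c hcm (by omega) rfl)
    exact (Nat.mul_le_mul_left _ (by omega)).trans hn

/-- the standing hypotheses for the extension field -/
theorem ctx_ext (ctx : Ctx F θ N M) {n : ℕ} (hn : Module.finrank F E * n ≤ N) : Ctx E θ n M := by
  have := ctx.finF
  have := ctx.finK
  have hE : Nat.card E = Nat.card F ^ Module.finrank F E := Module.natCard_eq_pow_finrank
  refine ⟨inferInstance, inferInstance, ctx.inj, fun h hm hd => splits_ext ctx hn _ h hm hd rfl, ctx.card, ?_⟩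
  intro d hd hdn
  rw [hE, ← pow_mul]
  exact ctx.dvd _ (Nat.mul_pos Module.finrank_pos hd) ((Nat.mul_le_mul_left _ hdn).trans hn)

omit [NeZero M] [Algebra F K] [IsScalarTower F E K] in
theorem theta_pow [NeZero M] [Finite F] {p : ℕ} {z : E} (hz : Ext F p z) {k : ℕ} (hd : Module.finrank F E ∣ k)
    {c : ZMod M} (hT : TorZ (Nat.card F : ℤ) M k c) (hc : PReg M p c) :
    θ (algebraMap E K z) ^ expo (Nat.card F) M k c = 1 := by
  have hM : 0 < M := Nat.pos_of_ne_zero (NeZero.ne M)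
  have hE : Nat.card E = Nat.card F ^ Module.finrank F E := Module.natCard_eq_pow_finrank
  have hq : 1 ≤ Nat.card F := Nat.card_pos
  have h1 := H623.GLn.expo_mul hq hT
  set a := expo (Nat.card F) M k c with ha
  set o := addOrderOf c with ho
  have h2 : M ∣ o * c.val := by
    rw [← ZMod.natCast_eq_zero_iff]
    push_cast
    rw [ZMod.natCast_zmod_val, ← nsmul_eq_mul]
    exact addOrderOf_nsmul_eq_zero c
  obtain ⟨t, ht⟩ := h2
  have h3 : o * a = t * (Nat.card F ^ k - 1) := by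
    apply Nat.eq_of_mul_eq_mul_right hM
    rw [mul_assoc, h1, ← mul_assoc, ht]
    ring
  have h4 : z ^ (Nat.card F ^ k - 1) = 1 := by
    obtain ⟨e, rfl⟩ := hd
    rw [pow_mul, ← hE]
    have h5 : Nat.card E - 1 ∣ Nat.card E ^ e - 1 := by
      have := Nat.sub_dvd_pow_sub_pow (Nat.card E) 1 e
      rwa [one_pow] at this
    obtain ⟨x, hx⟩ := h5
    have h6 : z ^ (Nat.card E - 1) = 1 := by
      have h7 : (Units.mk0 z hz.ne) ^ Nat.card Eˣ = 1 := pow_card_eq_one'
      rw [Nat.card_units] at h7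
      exact congrArg Units.val h7
    rw [hx, pow_mul, h6, one_pow]
  have h5 : (z ^ a) ^ o = 1 := by
    rw [← pow_mul, mul_comm, h3, mul_comm, pow_mul, h4, one_pow]
  obtain ⟨j, hj⟩ := hz.pow
  have h6 : (z ^ a) ^ (p ^ j) = 1 := by rw [← pow_mul, mul_comm, pow_mul, hj, one_pow]
  have h7 : z ^ a = 1 := by
    rw [← orderOf_eq_one_iff]
    exact Nat.eq_one_of_dvd_coprimes (Nat.Coprime.pow_right j hc) (orderOf_dvd_of_pow_eq_one h5)
      (orderOf_dvd_of_pow_eq_one h6)
  rw [← map_pow, ← map_pow, h7, map_one, map_one]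

theorem piA_X' (v : Var M) : piA (F := F) θ M (MvPolynomial.X v) = Rc θ M v.1 v.2 := by
  rw [piA, MvPolynomial.aeval_X]

theorem piA_rv_fn_zero {k : ℕ} (Q : ℤ) {c : ZMod M} {V : Type u} [AddCommGroup V] [Module F V] [Finite V]
    (T : V →ₗ[F] V) (h : Module.finrank F V ≠ k) : (piA (F := F) θ M (rv Q M k c)).fn V T = 0 := by
  rw [rv]
  split_ifs
  · rw [piA_X', Rc, Rf, comp_fn, if_neg h]
  · rw [map_zero]
    rfl

theorem cmp_gen (ctx : Ctx F θ N M) {p : ℕ} {z : E} (hz : Ext F p z) (k : ℕ) (c : ZMod M) (hc : PReg M p c) :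
    Cmp N p z (piA (F := F) θ M (rv (Nat.card F : ℤ) M k c))
      (piA (F := E) θ M (PhiF (Nat.card F : ℤ) M (Module.finrank F E) (rv (Nat.card F : ℤ) M k c))) := by
  have := ctx.finF
  have := ctx.finK
  have hE : Nat.card E = Nat.card F ^ Module.finrank F E := Module.natCard_eq_pow_finrank
  by_cases h : 0 < k ∧ TorZ (Nat.card F : ℤ) M k c
  swap
  · rw [rv, if_neg h, map_zero, map_zero, map_zero]
    exact Cmp.zero
  obtain ⟨hk, hT⟩ := h
  rw [rv, if_pos ⟨hk, hT⟩]
  have hT₀ := H623.GLn.torZ_canon hT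
  have hc₀ : PReg M p (canon (Nat.card F : ℤ) M c) := by
    obtain ⟨j, hj⟩ := H623.GLn.canon_spec (Nat.card F : ℤ) c
    rw [hj]
    refine Nat.Coprime.coprime_dvd_left ?_ hc
    rw [addOrderOf_dvd_iff_nsmul_eq_zero, nsmul_eq_mul, mul_left_comm, ← nsmul_eq_mul, addOrderOf_nsmul_eq_zero,
      mul_zero]
  generalize canon (Nat.card F : ℤ) M c = c₀ at hT₀ hc₀
  clear hc hT c
  intro V _ _ _ _ _ hV u k' hk' hu
  have hfin : Module.finrank F E * Module.finrank E V = Module.finrank F V := Module.finrank_mul_finrank F E V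
  rw [piA_X', PhiF, MvPolynomial.aeval_X]
  simp only
  by_cases hdim : Module.finrank F V = k
  swap
  · rw [Rc, Rf, comp_fn, if_neg hdim]
    split_ifs with hdvd
    · rw [map_sum, H941.GLn.sum_fn]
      refine (Finset.sum_eq_zero fun j _ => ?_).symm
      refine piA_rv_fn_zero _ u ?_
      intro h1
      apply hdim
      rw [← hfin, h1, Nat.mul_div_cancel' hdvd]
    · rw [map_zero]
      rfl
  have hdvd : Module.finrank F E ∣ k := by rw [← hdim, ← hfin]; exact dvd_mul_right _ _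
  have hd : k / Module.finrank F E = Module.finrank E V := by
    rw [← hdim, ← hfin, Nat.mul_div_cancel_left _ Module.finrank_pos]
  have hd0 : 0 < Module.finrank E V := by
    rcases Nat.eq_zero_or_pos (Module.finrank E V) with h0 | h0
    · rw [h0, mul_zero] at hfin
      omega
    · exact h0
  have hctx : Ctx E θ (Module.finrank E V) M := ctx_ext ctx (by rw [hfin]; exact hV)
  have hqk : Nat.card E ^ Module.finrank E V = Nat.card F ^ k := by rw [hE, ← pow_mul, hfin, hdim]
  rw [if_pos hdvd, hd, map_sum, H941.GLn.sum_fn, Rc, Rf, comp_fn, if_pos hdim, kapF_fn,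
    kap_ext hz (theta_pow hz hdvd hT₀ hc₀) (fun h hm hdeg => hctx.spl h hm hdeg) hk' hu]
  refine Finset.sum_congr rfl fun i _ => ?_
  have hTE : TorZ (Nat.card E : ℤ) M (Module.finrank E V) ((Nat.card F : ZMod M) ^ i * c₀) := by
    refine H623.GLn.torZ_mul ?_ _
    unfold TorZ at hT₀ ⊢
    rw [Int.cast_natCast] at hT₀ ⊢
    rw [← Nat.cast_pow, hqk, Nat.cast_pow]
    exact hT₀
  have e1 : ((Nat.card F : ℤ) ^ Module.finrank F E) = (Nat.card E : ℤ) := by rw [hE]; push_cast; rfl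
  have e2 : piA (F := E) θ M (rv (Nat.card E : ℤ) M (Module.finrank E V) ((Nat.card F : ZMod M) ^ i * c₀)) =
      Rc θ M (Module.finrank E V) ((Nat.card F : ZMod M) ^ i * c₀) :=
    H623.GLn.piA_rv hctx hd0 le_rfl hTE
  have hq : 2 ≤ Nat.card F := Finite.one_lt_card
  have e3 : Rf (F := E) θ (Module.finrank E V)
      (expo (Nat.card E) M (Module.finrank E V) ((Nat.card F : ZMod M) ^ i * c₀)) =
      Rf θ (Module.finrank E V) (expo (Nat.card F) M k c₀ * Nat.card F ^ i) := by
    refine H623.GLn.Rf_congr hctx hd0 le_rfl (j := 0) ?_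
    rw [pow_zero, mul_one]
    have h6 : expo (Nat.card E) M (Module.finrank E V) ((Nat.card F : ZMod M) ^ i * c₀) =
        expo (Nat.card F) M k ((Nat.card F : ZMod M) ^ i * c₀) := by
      rw [expo, expo, hqk]
    rw [h6, hqk]
    exact (H623.GLn.expo_modEq hq hk hT₀ (H623.GLn.torZ_mul hT₀ _) i).2 rfl
  rw [e1, Int.cast_natCast, e2, Rc, e3, Rf, comp_fn, if_pos rfl, kapF_fn]

/-- **R6b: restriction of scalars and translation by a `p`-element generating the extension** -/
theorem ev_ext {p : ℕ} (hctx : Ctx F θ N M) (hp : p.Prime) (_hpF : p ≠ ringChar F)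
    {V : Type u} [AddCommGroup V] [Module F V] [Module E V]
    [IsScalarTower F E V] [Finite V] (hV : Module.finrank F V ≤ N)
    (z : E) (j : ℕ) (hz : z ^ p ^ j = 1) (hgen : Algebra.adjoin F ({z} : Set E) = ⊤)
    (u : V →ₗ[E] V) (k : ℕ) (hk : k.Coprime p) (hu : u ^ k = 1) {x : RS M}
    (hx : x ∈ Algebra.adjoin ℂ {x : RS M | ∃ (k : ℕ) (c : ZMod M), PReg M p c ∧ x = rv (Nat.card F : ℤ) M k c}) :
    (piA (F := F) θ M x).fn V ((z • u).restrictScalars F) =
      (piA (F := E) θ M (PhiF (Nat.card F : ℤ) M (Module.finrank F E) x)).fn V u := by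
  have hz' : Ext F p z := by
    refine ⟨?_, ⟨j, hz⟩, hgen⟩
    rintro rfl
    rw [zero_pow (pow_pos hp.pos j).ne'] at hz
    exact zero_ne_one hz
  have key : Cmp N p z (piA (F := F) θ M x)
      (piA (F := E) θ M (PhiF (Nat.card F : ℤ) M (Module.finrank F E) x)) := by
    induction hx using Algebra.adjoin_induction with
    | mem x hx =>
      obtain ⟨k, c, hc, rfl⟩ := hx
      exact cmp_gen hctx hz' k c hc
    | algebraMap r =>
      rw [AlgHom.commutes, AlgHom.commutes, AlgHom.commutes, Algebra.algebraMap_eq_smul_one,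
        Algebra.algebraMap_eq_smul_one]
      exact Cmp.smul r Cmp.one
    | add x y _ _ hx hy =>
      rw [map_add, map_add, map_add]
      exact hx.add hy
    | mul x y _ _ hx hy =>
      rw [map_mul, map_mul, map_mul]
      exact Cmp.mul hz' hx hy
  exact key V hV u k hk hu

end main

end Cfsg.Agent.H111.GLExt
end

-- part: H623/GLn/D4S
section
/-!
# S4536, (D4): the pairing is not zero
-/

set_option autoImplicit false

open Cfsg
open scoped ComplexConjugate TensorProduct MatrixGroups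

namespace Cfsg.Agent.H623.GLn

open Cfsg.Agent.H614 Cfsg.Agent.H614.GLn Cfsg.Agent.H577.GLB.Std Cfsg.Agent.H624.Sl
open Cfsg.Agent.H577.GLB.Real (Om coP PhiF PGen frm IsLab)

universe u

variable {F : Type u} [Field F] [Finite F] {K : Type u} [Field K] [Algebra F K] {θ : K →*₀ ℂ} {N M : ℕ} [NeZero M]
  {p : ℕ}

/-- `ev_ext` for matrices -/
theorem ext_matrix (hctx : Ctx F θ N M) (hp : p.Prime) (hpF : p ≠ ringChar F) (E : IntermediateField F K) [Finite E]
    {f k : ℕ} (hE : Module.finrank F E = f) (hfk : f * k ≤ N) (z : Eˣ) (hz : ∃ a : ℕ, orderOf z = p ^ a)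
    (hgen : Algebra.adjoin F {(z : E)} = ⊤) (A : GL (Fin k) E) (hA : ¬ p ∣ orderOf A) {x : RS M}
    (hx : x ∈ PGen (Nat.card F : ℤ) M p) :
    (piA (F := F) θ M x).fn (Fin k → E) (rsM F ((z : E) • A.1)) =
      Om (F := E) θ M k (PhiF (Nat.card F : ℤ) M f x) A := by
  obtain ⟨a, ha⟩ := hz
  have h1 : (z : E) ^ p ^ a = 1 := by
    rw [← ha, ← Units.val_pow_eq_pow_val, pow_orderOf_eq_one, Units.val_one]
  have h2 : (Matrix.toLin' A.1) ^ orderOf A = 1 := by
    rw [← Matrix.toLin'_pow, ← Units.val_pow_eq_pow_val, pow_orderOf_eq_one, Units.val_one, Matrix.toLin'_one]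
    rfl
  have hV : Module.finrank F (Fin k → E) ≤ N := by
    rw [Module.finrank_pi_fintype, Finset.sum_const, Finset.card_univ, Fintype.card_fin, smul_eq_mul, hE, mul_comm]
    exact hfk
  have h3 := Cfsg.Agent.H111.GLExt.ev_ext (K := K) hctx hp hpF hV (z : E) a h1 hgen (Matrix.toLin' A.1) (orderOf A)
    ((Nat.Prime.coprime_iff_not_dvd hp).2 hA).symm h2 hx
  rw [hE] at h3
  rw [Om, ← piA_eq, ← h3, piA_eq]
  congr 1
  rw [rsM, map_smul]

/-- **The pairing is not zero.** -/
theorem pairing_ne_zero (hctx : Ctx F θ N M) (hp : p.Prime) (hpF : p ≠ ringChar F) {m n l f k : ℕ} (hn : n ≤ N)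
    (hQ : IsUnit (((Nat.card F : ℕ) : ℤ) : ZMod M))
    {χ : IrrCharacter (GL (Fin n) F)} {t : LabZ (Nat.card F) M m n} (ht : IsLab θ M m n χ t)
    (hx : SchP (Nat.card F : ℤ) M t.t ∈ PGen (Nat.card F : ℤ) M p)
    {δ : ZMod M} (hδ : PReg M p δ) (hf : 0 < f) (hk : 0 < k) (hfk : f * k ≤ n) (hl : l ≤ n)
    (E : IntermediateField F K) [Finite E] (hctxE : Ctx E θ k M)
    (hE : Module.finrank F E = f) (hT : TorZ (Nat.card E : ℤ) M k δ)
    (e : ((Fin k → E) × (Fin l → F)) ≃ₗ[F] (Fin n → F)) (z : Eˣ) (hz : ∃ a : ℕ, orderOf z = p ^ a) (hz1 : z ≠ 1)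
    (hgen : Algebra.adjoin F {(z : E)} = ⊤) (t₂ : LabZ (Nat.card F) M m l)
    (hne : form (Nat.card F : ℤ) M (tauP (Nat.card F : ℤ) M p
      (MvPolynomial.pderiv (f * k, canon (Nat.card F : ℤ) M δ) (SchP (Nat.card F : ℤ) M t.t)))
        (SchP (Nat.card F : ℤ) M t₂.t) ≠ 0)
    {θ₀ : IrrCharacter (GL (Fin k) E)}
    (hθ₀ : ∀ g, (θ₀ : GL (Fin k) E → ℂ) g = (-1) ^ (k - 1) * Om (F := E) θ M k (rv (Nat.card E : ℤ) M k δ) g)
    {χ₂ : IrrCharacter (GL (Fin l) F)} (ht₂ : IsLab θ M m l χ₂ t₂)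
    {H : Subgroup (GL (Fin n) F)} [Fintype H] (hH : (jj e).range = H) (ψ : IrrCharacter H)
    (hψ : ∀ (x : GL (Fin k) E × GL (Fin l) F) (h : H), jj e x = h →
      (ψ : H → ℂ) h = (θ₀ : GL (Fin k) E → ℂ) x.1 * (χ₂ : GL (Fin l) F → ℂ) x.2) :
    classInner (pRegularPart p (fun c : H => (χ : GL (Fin n) F → ℂ) (jj e (scl k z, 1) * (c : GL (Fin n) F))))
      (ψ : H → ℂ) ≠ 0 := by
  intro h0
  obtain ⟨s, hs⟩ := ht
  obtain ⟨s₂, hs₂⟩ := ht₂
  have hcard : ((Nat.card E : ℕ) : ℤ) = ((Nat.card F : ℕ) : ℤ) ^ f := by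
    rw [← hE, ← Nat.cast_pow]
    congr 1
    exact Module.natCard_eq_pow_finrank
  have hpE : p ≠ ringChar E := by
    have h1 : ringChar E = ringChar F := by
      have := ringChar.charP F
      have h2 : CharP E (ringChar F) := charP_of_injective_algebraMap (algebraMap F E).injective _
      exact (ringChar.eq_iff.2 h2)
    rw [h1]
    exact hpF
  have h1 := section_pairing (θ := θ) (m := l) (n := n) hp hctx hctxE hcard e z hz hz1 le_rfl (hl.trans hn)
    (fun A hA x hx => ext_matrix hctx hp hpF E hE (hfk.trans hn) z hz hgen A hA hx)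
    (fun x hx => Cfsg.Agent.H501.GLn.Om_tauP hctxE hp hpE le_rfl hx)
    (fun x hx => Cfsg.Agent.H501.GLn.Om_tauP hctx hp hpF (hl.trans hn) hx) hx
    (Cfsg.Agent.H112.GLB.rv_mem_hom (Q := (Nat.card E : ℤ)) k δ) (Cfsg.Agent.H112.GLB.schP_mem_hom hQ t₂)
    (Cfsg.Agent.H901.Sl.jj_injective e) hH
    (((-1 : ℂ) ^ (k - 1) * ((s₂ : ℤ) : ℂ)) • (ψ : H → ℂ)) (by
      intro x h hxh
      rw [Pi.smul_apply, hψ x h hxh, hθ₀, hs₂, smul_eq_mul, Pi.smul_apply, smul_eq_mul]
      have h2 : ((-1 : ℂ) ^ (k - 1)) * ((-1 : ℂ) ^ (k - 1)) = 1 := by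
        rw [← mul_pow]; simp
      linear_combination ((s₂ : ℤ) : ℂ) * (χ₂ : GL (Fin l) F → ℂ) x.2 * Om (F := E) θ M k (rv (Nat.card E : ℤ) M k δ) x.1 * h2)
  have h2 : classInner (pRegularPart p (fun c : H => Om (F := F) θ M n (SchP (Nat.card F : ℤ) M t.t)
      (jj e (scl k z, 1) * (c : GL (Fin n) F)))) (((-1 : ℂ) ^ (k - 1) * ((s₂ : ℤ) : ℂ)) • (ψ : H → ℂ)) = 0 := by
    have h3 : (fun c : H => Om (F := F) θ M n (SchP (Nat.card F : ℤ) M t.t) (jj e (scl k z, 1) * (c : GL (Fin n) F))) =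
        ((s : ℤ) : ℂ) • (fun c : H => (χ : GL (Fin n) F → ℂ) (jj e (scl k z, 1) * (c : GL (Fin n) F))) := by
      funext c
      rw [hs]
      rfl
    rw [h3, ← Cfsg.Agent.H646.RegInner.regMap_apply, map_smul, Characters.Core.classInner_smul_left,
      Cfsg.Agent.H646.RegInner.regMap_apply, Characters.Core.classInner_smul_right, h0, mul_zero, mul_zero]
  rw [h2, hcard] at h1
  have hT' : TorZ (((Nat.card F : ℕ) : ℤ) ^ f) M k δ := hcard ▸ hT
  have h3 := section_der hp hQ hf hk hT' hδ hx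
    (frm (Nat.card F : ℤ) M (SchP (Nat.card F : ℤ) M t₂.t) ∘ₗ (tauP (Nat.card F : ℤ) M p).toLinearMap)
  have h4 := h1.trans h3
  exact mul_ne_zero (lamF_ne_zero hQ hf hk hT') hne h4.symm

end Cfsg.Agent.H623.GLn
end

-- part: H142/GLn/Base
section
/-!
# S4536, D4-F3: the base case of the chain (helper142)

A label with `p'`-labels only and total weight zero: the irreducible character has defect zero and is fixed by the strong
stabiliser of the family.
-/

set_option autoImplicit false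
set_option linter.unusedSectionVars false
open Polynomial Cfsg
open scoped ComplexConjugate TensorProduct MatrixGroups

namespace Cfsg.Agent.H142.GLn

open Cfsg.Agent.H614 Cfsg.Agent.H614.GLn Cfsg.Agent.H577.GLB.Std Cfsg.Agent.H624.Sl Cfsg.Agent.Blocks.Local
open Cfsg.Agent.H577.GLB.Real (Om coP PhiF evA IsLab linH lin linH_apply PGen)

universe u v w

section std
variable {Q : ℤ} {M : ℕ} [NeZero M] {p : ℕ}

/-- a label alone in its family -/
def Alone (Q : ℤ) (M : ℕ) [NeZero M] (p : ℕ) {m n : ℕ} (t : LabZ Q M m n) : Prop :=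
  ∀ t' : LabZ Q M m n, SameFam Q M p t.t t'.t → t' = t

/-- the truncation of a label alone in its family is a multiple of it -/
theorem tauP_eq_smul (hQ : IsUnit (Q : ZMod M)) (hp : p.Prime) {m n : ℕ} (hn : n ≤ m) {t : LabZ Q M m n}
    (ht : Alone Q M p t) : ∃ c : ℂ, tauP Q M p (SchP Q M t.t) = c • SchP Q M t.t := by
  have h1 := H614.GLn.RSt.Hom_le_span hQ hn (H112.GLB.tauP_mem_hom p (H112.GLB.schP_mem_hom hQ t))
  obtain ⟨a, ha⟩ := (Finsupp.mem_span_range_iff_exists_finsupp).1 h1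
  refine ⟨a t, ?_⟩
  rw [← ha, Finsupp.sum]
  rw [Finset.sum_eq_single t]
  · intro t' ht' hne
    have h2 : form Q M (tauP Q M p (SchP Q M t.t)) (SchP Q M t'.t) = 0 :=
      H614.GLn.RSt.tau_fam hQ hp hn t t' fun h => hne (ht t' h)
    rw [← ha, Finsupp.sum, H614.GLn.RSt.form_sum_left, Finset.sum_eq_single t'] at h2
    · rw [H614.GLn.RSt.form_smul_left, H614.GLn.RSt.form_SchP hQ, if_pos rfl, mul_one] at h2
      rw [h2, zero_smul]
    · intro b _ hb
      rw [H614.GLn.RSt.form_smul_left, H614.GLn.RSt.form_SchP hQ, if_neg (fun h => hb (LabZ.ext h)), mul_zero]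
    · intro h
      exact absurd ht' h
  · intro h
    rw [Finsupp.notMem_support_iff.1 h, zero_smul]

/-- the shifted label -/
def shiftL {m n : ℕ} (t : LabZ Q M m n) {a : ZMod M} (ha : TorZ Q M 1 a) : LabZ Q M m n where
  t c := t.t (c - a)
  mono c := t.mono _
  orb c := by
    have h1 : (Q : ZMod M) * a = a := by
      have h2 : ((Q : ZMod M) ^ 1 - 1) * a = 0 := ha
      rwa [pow_one, sub_mul, one_mul, sub_eq_zero] at h2
    have h2 : (Q : ZMod M) * c - a = (Q : ZMod M) * (c - a) := by rw [mul_sub, h1]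
    show t.t ((Q : ZMod M) * c - a) = t.t (c - a)
    rw [h2, t.orb]
  sum := (Equiv.sum_comp (Equiv.subRight a) fun c => Cfsg.Agent.H577.GLB.Std.bsz (t.t c)).trans t.sum

end std

section gl
variable {F : Type u} [Field F] [Finite F] {K : Type u} [Field K] [Algebra F K] {θ : K →*₀ ℂ} {N M : ℕ} [NeZero M]
  {p : ℕ} {𝔐 : Ideal AlgInt}

/-- The irreducible character vanishes on the `p`-singular elements. -/
theorem vanish_of_alone (hctx : Ctx F θ N M) (hp : p.Prime) (hpF : p ≠ ringChar F) {m n : ℕ} (hn : n ≤ N)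
    (hm : n ≤ m) {χ : IrrCharacter (GL (Fin n) F)} {t : LabZ (Nat.card F) M m n} (ht : IsLab θ M m n χ t)
    (h0 : Alone (Nat.card F) M p t) {g : GL (Fin n) F} (hg : p ∣ orderOf g) : (χ : GL (Fin n) F → ℂ) g = 0 := by
  classical
  have hQ := H112.GLB.isUnit_card hctx
  obtain ⟨s, hs⟩ := ht
  obtain ⟨c, hc⟩ := tauP_eq_smul hQ hp hm h0
  have h1 := H501.GLn.Om_tauP hctx hp hpF hn (H112.GLB.schP_mem_hom hQ t).1
  have h2 : Om (F := F) θ M n (c • SchP (Nat.card F) M t.t) = c • Om (F := F) θ M n (SchP (Nat.card F) M t.t) :=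
    (H112.GLB.OmL F θ M n).map_smul c _
  rw [hc, h2, hs] at h1
  have hs0 : (((s : ℤ) : ℂ)) ≠ 0 := by exact_mod_cast s.ne_zero
  have h3 : ∀ x : GL (Fin n) F, c * (((s : ℤ) : ℂ) * (χ : GL (Fin n) F → ℂ) x) =
      if IsPRegular p x then ((s : ℤ) : ℂ) * (χ : GL (Fin n) F → ℂ) x else 0 := by
    intro x
    have h4 := congrFun h1 x
    rw [pRegularPart] at h4
    exact h4
  have h5 := h3 1
  rw [if_pos (show IsPRegular p (1 : GL (Fin n) F) by
    rw [IsPRegular, orderOf_one]; exact fun h => hp.one_lt.ne' (Nat.dvd_one.1 h))] at h5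
  have h6 : (χ : GL (Fin n) F → ℂ) 1 ≠ 0 := Cfsg.Agent.Blocks.Basic.irr_one_ne_zero χ.2
  have hc1 : c = 1 := by
    have h7 : (((s : ℤ) : ℂ) * (χ : GL (Fin n) F → ℂ) 1) ≠ 0 := mul_ne_zero hs0 h6
    exact mul_right_cancel₀ h7 (by rw [h5, one_mul])
  have h7 := h3 g
  rw [if_neg (show ¬ IsPRegular p g from fun h => h hg), hc1, one_mul] at h7
  exact (mul_eq_zero.1 h7).resolve_left hs0

/-- **The base case** for a label alone in its family. -/
theorem base_of_alone (hctx : Ctx F θ N M) (hp : p.Prime) (hpF : p ≠ ringChar F) {m n : ℕ} (hn : n ≤ N)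
    (hm : n ≤ m) {χ : IrrCharacter (GL (Fin n) F)} {t : LabZ (Nat.card F) M m n} (ht : IsLab θ M m n χ t)
    (h0 : Alone (Nat.card F) M p t) :
    (charDegree (χ : GL (Fin n) F → ℂ)).factorization p = (Nat.card (GL (Fin n) F)).factorization p ∧
    ∀ a : ZMod M, SF (Nat.card F) M p t a → FixIrr (dch n (linH F θ M a)) (χ : GL (Fin n) F → ℂ) := by
  have hpf : Fact p.Prime := ⟨hp⟩
  have hQ := H112.GLB.isUnit_card hctx
  refine ⟨Cfsg.Agent.S0928.result p χ fun g hg => vanish_of_alone hctx hp hpF hn hm ht h0 (by rw [hg]), ?_⟩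
  intro a ha g hg
  obtain ⟨ha1, ha2, ha3⟩ := ha.1
  have h1 : shiftL t ha1 = t := h0 _ ha3
  have h2 : (fun c => t.t (c - a)) = t.t := congrArg LabZ.t h1
  have h3 := H157.GLB.twist_SchP hQ a ha1 t.t t.orb
  rw [h2] at h3
  obtain ⟨s, hs⟩ := ht
  have h4 := Cfsg.Agent.H577.GLB.Real.Om_twist hctx hn a ha1 (H112.GLB.schP_mem_hom hQ t) g
  rw [h3, hs] at h4
  have hs0 : (((s : ℤ) : ℂ)) ≠ 0 := by exact_mod_cast s.ne_zero
  have h5 : (((s : ℤ) : ℂ) * (χ : GL (Fin n) F → ℂ) g) ≠ 0 := mul_ne_zero hs0 hg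
  have h6 : lin F θ M a (Matrix.GeneralLinearGroup.det g) = 1 := by
    have h7 : (1 : ℂ) * (((s : ℤ) : ℂ) * (χ : GL (Fin n) F → ℂ) g) =
        lin F θ M a (Matrix.GeneralLinearGroup.det g) * (((s : ℤ) : ℂ) * (χ : GL (Fin n) F → ℂ) g) := by
      rw [one_mul]
      exact h4
    exact (mul_right_cancel₀ h5 h7).symm
  apply Units.ext
  rw [Units.val_one, ← h6]
  exact linH_apply θ M a _

end gl

end Cfsg.Agent.H142.GLn
end

-- part: H947/GLn/CuspFix
section
/-!
# S4536, D4-F4 (helper947): cuspidal characters fixed by a linear character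
-/

set_option autoImplicit false
set_option linter.unusedSectionVars false
open Polynomial Cfsg
open scoped ComplexConjugate TensorProduct MatrixGroups

namespace Cfsg.Agent.H947.GLn

open Cfsg.Agent.H614 Cfsg.Agent.H614.GLn Cfsg.Agent.H577.GLB.Std Cfsg.Agent.H624.Sl Cfsg.Agent.Blocks.Local
open Cfsg.Agent.H577.GLB.Real (Om lin linH)

universe u v w

/-- a label fixed by the twist -/
theorem twist_rv {Q : ℤ} {M : ℕ} [NeZero M] (hQ : IsUnit (Q : ZMod M)) {k : ℕ} (hk : 0 < k) {δ a : ZMod M}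
    (ha : TorZ Q M 1 a) (hT : TorZ Q M k δ) (hδa : ∃ j : ℕ, δ + a = (Q : ZMod M) ^ j * δ) :
    twist Q M a (rv Q M k δ) = rv Q M k δ := by
  have hQa : (Q : ZMod M) * a = a := by
    unfold TorZ at ha
    rw [pow_one, sub_mul, one_mul] at ha
    exact sub_eq_zero.1 ha
  have hQa' : ∀ j : ℕ, (Q : ZMod M) ^ j * a = a := by
    intro j
    induction j with
    | zero => rw [pow_zero, one_mul]
    | succ j ih => rw [pow_succ, mul_assoc, hQa, ih]
  obtain ⟨i, hi⟩ := H623.GLn.canon_spec Q δ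
  obtain ⟨j, hj⟩ := hδa
  have h1 : twist Q M a (rv Q M k δ) = rv Q M k (canon Q M δ + a) := by
    rw [rv, if_pos ⟨hk, hT⟩]
    exact MvPolynomial.aeval_X _ _
  have h2 : canon Q M δ + a = (Q : ZMod M) ^ i * (δ + a) := by
    rw [hi, mul_add, hQa']
  rw [h1, h2, RSt.rv_pow_mul hQ, hj, RSt.rv_pow_mul hQ]

/-- the linear character of the extension field is the norm of the one of the small field -/
theorem lin_norm {F : Type u} [Field F] [Finite F] {K : Type u} [Field K] [Finite K] [Algebra F K] {θ : K →*₀ ℂ}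
    {M : ℕ} [NeZero M] (E : IntermediateField F K) [Finite E] {a : ZMod M} (ha : TorZ (Nat.card F) M 1 a)
    (haE : TorZ (Nat.card E) M 1 a) (y : Eˣ) :
    θ (algebraMap E K (y : E)) ^ expo (Nat.card E) M 1 a = lin F θ M a (nrm F E y) := by
  have hq : 1 < Nat.card F := Finite.one_lt_card
  have hqE : 1 < Nat.card E := Finite.one_lt_card
  have hM : 0 < M := Nat.pos_of_ne_zero (NeZero.ne M)
  have h1 := H623.GLn.expo_mul (by omega) ha
  have h2 := H623.GLn.expo_mul (by omega) haE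
  rw [pow_one] at h1 h2
  have hdvd : Nat.card F - 1 ∣ Nat.card E - 1 := by
    rw [Module.natCard_eq_pow_finrank (K := F) (V := E)]
    exact Nat.sub_one_dvd_pow_sub_one _ _
  obtain ⟨r, hr⟩ := hdvd
  have hdiv : (Nat.card E - 1) / (Nat.card F - 1) = r := by
    rw [hr, Nat.mul_div_cancel_left _ (by omega)]
  have he : expo (Nat.card E) M 1 a = r * expo (Nat.card F) M 1 a := by
    apply Nat.eq_of_mul_eq_mul_right hM
    rw [h2, hr, mul_assoc, h1]
    ring
  have hN : algebraMap F E (Algebra.norm F (y : E)) = (y : E) ^ r := by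
    rw [FiniteField.algebraMap_norm_eq_pow, hdiv]
  have hN' : algebraMap F K (Algebra.norm F (y : E)) = (algebraMap E K (y : E)) ^ r := by
    rw [IsScalarTower.algebraMap_apply F E K, hN, map_pow]
  rw [lin]
  show _ = θ (algebraMap F K (Algebra.norm F (y : E))) ^ _
  rw [hN', he, pow_mul, map_pow]

section gl
variable {F : Type u} [Field F] [Finite F] {K : Type u} [Field K] [Algebra F K] {θ : K →*₀ ℂ} {N M : ℕ} [NeZero M]
  {p : ℕ} {𝔐 : Ideal AlgInt} [𝔐.IsPrime]

/-- F4: the cuspidal character with label `δ` of `GL_k(E)` is fixed by the linear character with label `a` if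
`δ + a` is in the orbit of `δ` over `E`; the linear character of `GL_k(E)` is the norm of the one over `F` -/
theorem cusp_fix (hctx : Ctx F θ N M) (hN : 1 ≤ N) (E : IntermediateField F K) [Finite E] {k : ℕ} (hk : 0 < k)
    (hctxE : Ctx E θ k M) (δ a : ZMod M) (ha : TorZ (Nat.card F) M 1 a)
    (hδa : ∃ j : ℕ, δ + a = ((Nat.card E : ℕ) : ZMod M) ^ j * δ) (hT : TorZ (Nat.card E) M k δ)
    (χ : IrrCharacter (GL (Fin k) E))
    (hχ : ∀ g, (χ : GL (Fin k) E → ℂ) g = (-1) ^ (k - 1) * Om (F := E) θ M k (rv (Nat.card E) M k δ) g) :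
    FixIrr (dch k ((linH F θ M a).comp (Cfsg.Agent.H624.Sl.nrm F E))) (χ : GL (Fin k) E → ℂ) := by
  intro g hg
  have hfK : Finite K := hctx.finK
  have hQ : IsUnit (((Nat.card E : ℕ) : ℤ) : ZMod M) := H112.GLB.isUnit_card hctxE
  have haE : TorZ (Nat.card E) M 1 a := by
    have hq : Nat.card E = Nat.card F ^ Module.finrank F E := Module.natCard_eq_pow_finrank (K := F) (V := E)
    have h1 := H809.GLB.torZ_of_one ha (Module.finrank F E)
    unfold TorZ at h1 ⊢
    rw [pow_one, hq]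
    push_cast at h1 ⊢
    exact h1
  have htw := twist_rv hQ hk haE hT (by
    obtain ⟨j, hj⟩ := hδa
    exact ⟨j, by rw [hj]; push_cast; rfl⟩)
  have h2 := Cfsg.Agent.H577.GLB.Real.Om_twist' (F := E) hctxE le_rfl a haE (Cfsg.Agent.H112.GLB.rv_mem_hom k δ) g
  rw [htw] at h2
  have hOm : Om (F := E) θ M k (rv (Nat.card E) M k δ) g ≠ 0 := by
    intro h0
    apply hg
    rw [hχ, h0, mul_zero]
  have h3 : θ (algebraMap E K (Matrix.GeneralLinearGroup.det g : E)) ^ expo (Nat.card E) M 1 a = 1 := by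
    have h4 : (1 : ℂ) * Om (F := E) θ M k (rv (Nat.card E) M k δ) g =
        θ (algebraMap E K (Matrix.GeneralLinearGroup.det g : E)) ^ expo (Nat.card E) M 1 a *
          Om (F := E) θ M k (rv (Nat.card E) M k δ) g := by rw [one_mul]; exact h2
    exact (mul_right_cancel₀ hOm h4).symm
  have h5 := lin_norm (θ := θ) E ha haE (Matrix.GeneralLinearGroup.det g)
  apply Units.ext
  show ((linH F θ M a (nrm F E (Matrix.GeneralLinearGroup.det g)) : ℂˣ) : ℂ) = ((1 : ℂˣ) : ℂ)
  rw [Cfsg.Agent.H577.GLB.Real.linH_apply, ← h5, h3, Units.val_one]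

end gl

end Cfsg.Agent.H947.GLn
end

-- part: H623/GLn/D4F
section
/-!
# S4536, (D4): the reduction step, the chain and the elementary abelian subgroup of the defect group
-/

set_option autoImplicit false

open Cfsg
open scoped ComplexConjugate TensorProduct MatrixGroups

namespace Cfsg.Agent.H623.GLn

open Cfsg.Agent.H614 Cfsg.Agent.H614.GLn Cfsg.Agent.H577.GLB.Std Cfsg.Agent.H624.Sl Cfsg.Agent.Blocks.Local
open Cfsg.Agent.H577.GLB.Real (Om coP PhiF PGen frm IsLab linH)
open Cfsg.Agent.Blocks.Basic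
open Cfsg.Agent.H117.GLn (SchP_mem_PGen lower_mem_span)
open Cfsg.Agent.H688.D4 (totW_step exists_of_totW_pos SF_step)
open Cfsg.Agent.H947.GLn (cusp_fix)

universe u

variable {F : Type u} [Field F] [Finite F] {K : Type u} [Field K] [Algebra F K] {θ : K →*₀ ℂ} {N M : ℕ} [NeZero M]
  {p : ℕ} {𝔐 : Ideal AlgInt}

theorem orth (Q : ℤ) (M : ℕ) [NeZero M] (hQ : IsUnit (Q : ZMod M)) : Cfsg.Agent.H76.GLB.Orth Q M := by
  intro m n _ t t'
  rw [RSt.form_SchP hQ t t']
  constructor
  · rintro rfl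
    rw [if_pos rfl]
  · intro h
    rw [if_neg fun h' => h (LabZ.ext h')]

/-- `q` is a unit modulo `p` -/
theorem isUnit_card_p (hp : p.Prime) (hpF : p ≠ ringChar F) : IsUnit (((Nat.card F : ℕ) : ZMod p)) := by
  have := Fintype.ofFinite F
  have := ringChar.charP F
  obtain ⟨k, hr, hc⟩ := FiniteField.card F (ringChar F)
  rw [ZMod.isUnit_iff_coprime, Nat.card_eq_fintype_card, hc]
  exact Nat.Coprime.pow_left _ ((Nat.coprime_primes hr hp).2 fun h => hpF h.symm)

/-- the data of a reduction step of the block `B` of `GL_n(F)` with the label `t` -/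
def Red (F : Type u) [Field F] [Finite F] {K : Type u} [Field K] [Algebra F K] (θ : K →*₀ ℂ) (M p : ℕ) [NeZero M]
    (𝔐 : Ideal AlgInt) (m n : ℕ) (B : Set (IrrCharacter (GL (Fin n) F))) (t : LabZ (Nat.card F) M m n) : Prop :=
  ∃ (l k : ℕ) (E : Type u) (_ : Field E) (_ : Finite E) (_ : Algebra F E)
    (e : ((Fin k → E) × (Fin l → F)) ≃ₗ[F] (Fin n → F)) (z : Eˣ) (θ₀ : IrrCharacter (GL (Fin k) E))
    (b₂ : Set (IrrCharacter (GL (Fin l) F))) (χ₂ : IrrCharacter (GL (Fin l) F)) (t₂ : LabZ (Nat.card F) M m l),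
    l ≤ n ∧ 0 < k ∧ ¬ p ∣ k ∧ (∃ a : ℕ, orderOf z = p ^ a) ∧ z ≠ 1 ∧ Algebra.adjoin F {(z : E)} = ⊤ ∧
    IsCusp (θ₀ : GL (Fin k) E → ℂ) ∧
    (∀ a : ZMod M, SF (Nat.card F) M p t a →
      FixIrr (dch k ((linH F θ M a).comp (Cfsg.Agent.H624.Sl.nrm F E))) (θ₀ : GL (Fin k) E → ℂ)) ∧
    IsPBlock 𝔐 b₂ ∧
    IsInducedBlock 𝔐 (Subgroup.centralizer ({jj e (scl k z, 1)} : Set (GL (Fin n) F)))
      (prodBlk (Subgroup.centralizer ({jj e (scl k z, 1)} : Set (GL (Fin n) F))) (jj e)
        (blockOf 𝔐 (θ₀ : GL (Fin k) E → ℂ)) b₂) B ∧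
    χ₂ ∈ b₂ ∧ IsLab θ M m l χ₂ t₂ ∧ POnly M p t₂.t ∧
    totW (Nat.card F) M p t₂.t + 1 = totW (Nat.card F) M p t.t ∧
    (∀ a : ZMod M, SF (Nat.card F) M p t a → SF (Nat.card F) M p t₂ a)

/-- **The reduction step.** -/
theorem exists_red (hctx : Ctx F θ N M) (hpF : p ≠ ringChar F) (h𝔐 : IsPModular p 𝔐) {m n : ℕ} (hn : n ≤ N)
    (hm : n ≤ m) {B : Set (IrrCharacter (GL (Fin n) F))} (hB : IsPBlock 𝔐 B) {χ : IrrCharacter (GL (Fin n) F)}
    (hχ : χ ∈ B) {t : LabZ (Nat.card F) M m n} (ht : IsLab θ M m n χ t) (ht' : POnly M p t.t)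
    (hw : 0 < totW (Nat.card F) M p t.t) : Red F θ M p 𝔐 m n B t := by
  classical
  have hp : p.Prime := h𝔐.1
  have : Fact p.Prime := ⟨hp⟩
  have := isPrime_of_isPModular h𝔐
  have hQ : IsUnit (((Nat.card F : ℕ) : ℤ) : ZMod M) := Cfsg.Agent.H112.GLB.isUnit_card hctx
  have hQp' : IsUnit ((Nat.card F : ℕ) : ZMod p) := isUnit_card_p hp hpF
  have hQp : IsUnit (((Nat.card F : ℕ) : ℤ) : ZMod p) := by
    rw [Int.cast_natCast]
    exact hQp'
  obtain ⟨δ, hδ, hwδ⟩ := exists_of_totW_pos t hw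
  obtain ⟨hle, l, hl, t₁, ht₁, h₁, hcol, hew, hform, hspan⟩ :
      eD ((Nat.card F : ℕ) : ℤ) M p δ * perZ ((Nat.card F : ℕ) : ℤ) M δ ≤ n ∧
      ∃ l : ℕ, l = n - eD ((Nat.card F : ℕ) : ℤ) M p δ * perZ ((Nat.card F : ℕ) : ℤ) M δ ∧
      ∃ t₁ : LabZ ((Nat.card F : ℕ) : ℤ) M m l, POnly M p t₁.t ∧
      (∀ δ', ¬ SameZ ((Nat.card F : ℕ) : ℤ) M δ δ' → t₁.t δ' = t.t δ') ∧
      SameCol (eD ((Nat.card F : ℕ) : ℤ) M p δ) (t₁.t δ) (t.t δ) ∧
      ewt (eD ((Nat.card F : ℕ) : ℤ) M p δ) (t₁.t δ) + 1 = ewt (eD ((Nat.card F : ℕ) : ℤ) M p δ) (t.t δ) ∧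
      form ((Nat.card F : ℕ) : ℤ) M (MvPolynomial.pderiv
        (eD ((Nat.card F : ℕ) : ℤ) M p δ * perZ ((Nat.card F : ℕ) : ℤ) M δ, canon ((Nat.card F : ℕ) : ℤ) M δ)
        (SchP ((Nat.card F : ℕ) : ℤ) M t.t)) (SchP ((Nat.card F : ℕ) : ℤ) M t₁.t) ≠ 0 ∧
      MvPolynomial.pderiv
        (eD ((Nat.card F : ℕ) : ℤ) M p δ * perZ ((Nat.card F : ℕ) : ℤ) M δ, canon ((Nat.card F : ℕ) : ℤ) M δ)
        (SchP ((Nat.card F : ℕ) : ℤ) M t.t) ∈ Submodule.span ℂ
        {x : RS M | ∃ t' : LabZ ((Nat.card F : ℕ) : ℤ) M m l, POnly M p t'.t ∧ x = SchP ((Nat.card F : ℕ) : ℤ) M t'.t} := by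
    obtain ⟨hle, t₁, ht₁, h₁, hcol, hew, hform⟩ :=
      Cfsg.Agent.H76.GLB.exists_lower (orth _ M hQ) hp hQ hQp hm t ht' δ hδ hwδ
    exact ⟨hle, _, rfl, t₁, ht₁, h₁, hcol, hew, hform, lower_mem_span hp hQ hQp hm t ht' δ hδ hwδ⟩
  obtain ⟨s, k, hsk, hpk, hk, hper, horb⟩ := Cfsg.Agent.H157.GLB.exists_split hp hQ hQp δ
  set f := orderOf ((((Nat.card F : ℕ) : ℤ)) : ZMod p) * p ^ s with hfdef
  have hf : 0 < f := by
    rcases Nat.eq_zero_or_pos f with h | h
    · exfalso
      rw [h, zero_mul] at hsk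
      have h1 := Cfsg.Agent.H76.GLB.eD_pos (M := M) hp hQp δ
      have h2 := RSt.perZ_pos hQ δ
      exact (Nat.mul_pos h1 h2).ne' hsk
    · exact h
  rw [hsk] at hle hl hform hspan
  have hfn : f ≤ n := (Nat.le_mul_of_pos_right f hk).trans hle
  have hln : l ≤ n := by rw [hl]; exact Nat.sub_le _ _
  have hford : orderOf ((Nat.card F : ℕ) : ZMod p) * p ^ s = f := by
    rw [hfdef, Int.cast_natCast]
  obtain ⟨E, z, hE, hz, hz1, hgen, hfinE, hctxE'⟩ :=
    Cfsg.Agent.H505.S4536.Ext.exists_ext_data hctx hp hQp' s (by rw [hford]; exact hfn.trans hn)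
  rw [hford] at hE hctxE'
  have hctxE : Ctx E θ k M := hctxE' k (hle.trans hn)
  have hcard : ((Nat.card E : ℕ) : ℤ) = ((Nat.card F : ℕ) : ℤ) ^ f := by
    rw [← hE, ← Nat.cast_pow]
    congr 1
    exact Module.natCard_eq_pow_finrank
  have hperE : perZ ((Nat.card E : ℕ) : ℤ) M δ = k := by rw [hcard]; exact hper
  obtain ⟨θ₀, hcusp, hθ₀⟩ := Cfsg.Agent.H583.GLn.exists_cusp hctxE hk le_rfl δ hperE
  have hT : TorZ ((Nat.card E : ℕ) : ℤ) M k δ := (RSt.torZ_iff k δ).2 (by rw [hperE])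
  -- the block of the smaller group
  obtain ⟨t₂, hne, hfam₂⟩ := exists_t2 hp hQ hQp (hln.trans hm) hspan t₁ hform
  obtain ⟨χ₂, ht₂, -⟩ := (Cfsg.Agent.H577.GLB.Real.isLab_bij hctx (hln.trans hn) (hln.trans hm)).2 t₂
  -- the isomorphism
  have hfr : Module.finrank F ((Fin k → E) × (Fin l → F)) = Module.finrank F (Fin n → F) := by
    rw [Module.finrank_prod, Module.finrank_pi_fintype, Finset.sum_const, Finset.card_univ, Fintype.card_fin,
      smul_eq_mul, hE, Module.finrank_fin_fun, Module.finrank_fin_fun, hl, mul_comm k f]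
    omega
  let e : ((Fin k → E) × (Fin l → F)) ≃ₗ[F] (Fin n → F) := LinearEquiv.ofFinrankEq _ _ hfr
  obtain ⟨H, hH⟩ : ∃ H : Subgroup (GL (Fin n) F), H = Subgroup.centralizer ({jj e (scl k z, 1)} : Set (GL (Fin n) F)) :=
    ⟨_, rfl⟩
  have hHr : (jj e).range = H := by
    rw [hH]
    exact Cfsg.Agent.H901.Sl.centralizer_jj e z hz1 hgen
  have hinj := Cfsg.Agent.H901.Sl.jj_injective e
  have := Fintype.ofFinite H
  obtain ⟨ψ, hψ⟩ := Cfsg.Agent.H76.GLB.exists_prodChar hinj hHr θ₀ χ₂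
  have hpair := pairing_ne_zero hctx hp hpF hn hQ ht (SchP_mem_PGen hQ t.t ht') hδ hf hk hle hln E hctxE hE hT e z hz hz1
    hgen t₂ hne hθ₀ ht₂ hHr ψ hψ
  have hu : ∃ a : ℕ, orderOf (jj e (scl k z, 1)) = p ^ a := by
    obtain ⟨a, ha⟩ := hz
    have h1 : (jj e (scl k z, 1)) ^ p ^ a = 1 := by
      rw [← map_pow, Prod.pow_mk, one_pow]
      have h2 : (scl k z) ^ p ^ a = 1 := by
        have h3 : (scl k z : GL (Fin k) E) = Units.map (Matrix.scalar (Fin k)).toMonoidHom z := rfl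
        rw [h3, ← map_pow, ← ha, pow_orderOf_eq_one, map_one]
      rw [h2]
      exact map_one (jj e)
    obtain ⟨b, -, hb⟩ := (Nat.dvd_prime_pow hp).1 (orderOf_dvd_of_pow_eq_one h1)
    exact ⟨b, hb⟩
  have hind := induced_of_pairing h𝔐 hu hH hB hχ (isPBlock_blockOf ψ) (mem_blockOf_self ψ) hpair
  rw [← Cfsg.Agent.H76.GLB.prodBlk_blockOf h𝔐 hinj hHr θ₀ χ₂ ψ hψ] at hind
  -- a character with a `p'`-label in the block
  have hlab : Cfsg.Agent.H112.GLB.LabBij F θ M m l :=
    Cfsg.Agent.H577.GLB.Real.isLab_bij hctx (hln.trans hn) (hln.trans hm)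
  obtain ⟨χ₂', hχ₂', t₂', ht₂', ht₂p⟩ := Cfsg.Agent.H112.GLB.exists_pOnly_mem_of hctx h𝔐 (hln.trans hn) hlab
    (Cfsg.Agent.H112.GLB.tauReal hctx hp hpF (hln.trans hn))
    (fun S hS hcl => Cfsg.Agent.H505.S4536.DC.Fin.exists_pOnly hp hQ hQp (hln.trans hm) S hS hcl)
    (isPBlock_blockOf (M := 𝔐) χ₂)
  have hfam' : SameFam ((Nat.card F : ℕ) : ℤ) M p t₂.t t₂'.t :=
    Cfsg.Agent.H112.GLB.sameFam_of_mem_of hctx hpF h𝔐 (hln.trans hn) (hln.trans hm) hlab (isPBlock_blockOf χ₂)
      (mem_blockOf_self χ₂) hχ₂' ht₂ ht₂'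
  have hfam'' := SameFam.trans' hfam₂ hfam'
  refine ⟨l, k, E, inferInstance, hfinE, inferInstance, e, z, θ₀, blockOf 𝔐 (χ₂ : GL (Fin l) F → ℂ), χ₂', t₂', hln, hk, hpk,
    hz, hz1, hgen, hcusp, ?_, isPBlock_blockOf χ₂, ?_, hχ₂', ht₂', ht₂p, ?_, ?_⟩
  · intro a ha
    obtain ⟨j, hj⟩ := horb a ha.1.2.1 ha.1.1 (ha.2 δ hδ hwδ)
    refine cusp_fix hctx ((Nat.succ_le_of_lt hf).trans (hfn.trans hn)) E hk hctxE δ a ha.1.1 ⟨j, ?_⟩ hT θ₀ hθ₀
    rw [hj, ← hcard, Int.cast_natCast]
  · rw [← hH]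
    exact hind
  · rw [Cfsg.Agent.H157.GLB.totW_congr hp hQ hQp (hln.trans hm) t₁ t₂' ht₁ ht₂p hfam'']
    exact totW_step hp hQ hQp t t₁ δ hδ h₁ hew
  · intro a ha
    exact SF_step hp hQ hQp hm (hln.trans hm) t ht' t₁ t₂' ht₁ ht₂p δ hδ hwδ h₁ hcol hew hfam'' ha

/-- base case of the chain: weight zero means defect zero, and the strong stabiliser fixes the character -/
theorem base_chain (hctx : Ctx F θ N M) (hpF : p ≠ ringChar F) (h𝔐 : IsPModular p 𝔐) {m n : ℕ} (hn : n ≤ N)
    (hm : n ≤ m) {χ : IrrCharacter (GL (Fin n) F)} {t : LabZ (Nat.card F) M m n} (ht : IsLab θ M m n χ t)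
    (ht' : POnly M p t.t) (h0 : totW (Nat.card F) M p t.t = 0) :
    (charDegree (χ : GL (Fin n) F → ℂ)).factorization p = (Nat.card (GL (Fin n) F)).factorization p ∧
    ∀ a : ZMod M, SF (Nat.card F) M p t a → FixIrr (dch n (linH F θ M a)) (χ : GL (Fin n) F → ℂ) := by
  have hQ : IsUnit (((Nat.card F : ℕ) : ℤ) : ZMod M) := Cfsg.Agent.H112.GLB.isUnit_card hctx
  have hQp : IsUnit (((Nat.card F : ℕ) : ℤ) : ZMod p) := by
    rw [Int.cast_natCast]
    exact isUnit_card_p h𝔐.1 hpF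
  exact Cfsg.Agent.H142.GLn.base_of_alone hctx h𝔐.1 hpF hn hm ht fun t' h =>
    Cfsg.Agent.H157.GLB.eq_of_totW_zero h𝔐.1 hQ hQp hm t t' ht' h0 h

/-- **(D4)** the chain of a block of `GL_n(F)`. -/
theorem exists_chain_aux (hctx : Ctx F θ N M) (hpF : p ≠ ringChar F) (h𝔐 : IsPModular p 𝔐) (w : ℕ) :
    ∀ {m n : ℕ}, n ≤ N → n ≤ m → ∀ {B : Set (IrrCharacter (GL (Fin n) F))}, IsPBlock 𝔐 B →
      ∀ {χ : IrrCharacter (GL (Fin n) F)}, χ ∈ B → ∀ {t : LabZ (Nat.card F) M m n}, IsLab θ M m n χ t →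
      POnly M p t.t → totW (Nat.card F) M p t.t = w → ∀ a : ZMod M, SF (Nat.card F) M p t a →
      Chain p 𝔐 (linH F θ M a) n B := by
  have := isPrime_of_isPModular h𝔐
  induction w with
  | zero =>
    intro m n hn hm B hB χ hχ t ht ht' h0 a ha
    obtain ⟨h1, h2⟩ := base_chain hctx hpF h𝔐 hn hm ht ht' h0
    rw [isPBlock_eq_blockOf hB hχ]
    exact Chain.zero χ h1 (h2 a ha)
  | succ w ih =>
    intro m n hn hm B hB χ hχ t ht ht' h0 a ha
    obtain ⟨l, k, E, hE1, hE2, hE3, e, z, θ₀, b₂, χ₂, t₂, hln, hk, hpk, hz, hz1, hgen, hcusp, hfix, hb₂, hind, hχ₂, ht₂,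
      ht₂p, hw, hSF⟩ := exists_red hctx hpF h𝔐 hn hm hB hχ ht ht' (h0 ▸ Nat.succ_pos w)
    rw [h0] at hw
    exact Chain.step E e z hz hz1 hgen hk hpk θ₀ hcusp (hfix a ha) b₂ B hind
      (ih (hln.trans hn) (hln.trans hm) hb₂ hχ₂ ht₂ ht₂p (Nat.succ_injective hw) a (hSF a ha))

/-- **(D4)** the chain of a block of `GL_n(F)`. -/
theorem exists_chain (hctx : Ctx F θ N M) (hpF : p ≠ ringChar F) (h𝔐 : IsPModular p 𝔐) {m n : ℕ} (hn : n ≤ N)
    (hm : n ≤ m) {B : Set (IrrCharacter (GL (Fin n) F))} (hB : IsPBlock 𝔐 B) {χ : IrrCharacter (GL (Fin n) F)}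
    (hχ : χ ∈ B) {t : LabZ (Nat.card F) M m n} (ht : IsLab θ M m n χ t) (ht' : POnly M p t.t) {a : ZMod M}
    (ha : SF (Nat.card F) M p t a) : Chain p 𝔐 (linH F θ M a) n B :=
  exists_chain_aux hctx hpF h𝔐 _ hn hm hB hχ ht ht' rfl a ha

/-- a central element of order `p` -/
theorem exists_scl {E : Type u} [Field E] [Finite E] (hp : p.Prime) {z : Eˣ} (hz : ∃ a : ℕ, orderOf z = p ^ a) (hz1 : z ≠ 1)
    {k : ℕ} (hk : 0 < k) : ∃ c : GL (Fin k) E, orderOf c = p ∧ ∀ g : GL (Fin k) E, c * g = g * c := by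
  obtain ⟨a, ha⟩ := hz
  have ha0 : a ≠ 0 := by
    rintro rfl
    rw [pow_zero, orderOf_eq_one_iff] at ha
    exact hz1 ha
  have h1 : orderOf (z ^ p ^ (a - 1)) = p := by
    rw [orderOf_pow, ha, Nat.gcd_eq_right (pow_dvd_pow p (Nat.sub_le a 1)), Nat.pow_div (Nat.sub_le a 1) hp.pos,
      Nat.sub_sub_self (Nat.one_le_iff_ne_zero.2 ha0), pow_one]
  refine ⟨scl k (z ^ p ^ (a - 1)), ?_, fun g => ?_⟩
  · refine Eq.trans ?_ h1
    apply orderOf_injective (Units.map (Matrix.scalar (Fin k)).toMonoidHom : Eˣ →* GL (Fin k) E)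
    intro x y hxy
    have h2 := congrArg (fun A : GL (Fin k) E => A.1 ⟨0, hk⟩ ⟨0, hk⟩) hxy
    apply Units.ext
    simpa using h2
  · apply Units.ext
    change (Matrix.scalar (Fin k)) ((z ^ p ^ (a - 1) : Eˣ) : E) * g.1 = g.1 * (Matrix.scalar (Fin k)) _
    exact (Matrix.scalar_commute _ (fun r => Commute.all _ r) _)

/-- one step of the elementary abelian subgroup -/
theorem elab_step (h𝔐 : IsPModular p 𝔐) {n k l w : ℕ} {E : Type u} [Field E] [Finite E] [Algebra F E]
    (e : ((Fin k → E) × (Fin l → F)) ≃ₗ[F] (Fin n → F)) (hk : 0 < k) {z : Eˣ} (hz : ∃ a : ℕ, orderOf z = p ^ a)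
    (hz1 : z ≠ 1) (hgen : Algebra.adjoin F {(z : E)} = ⊤) (θ₀ : IrrCharacter (GL (Fin k) E))
    {b₂ : Set (IrrCharacter (GL (Fin l) F))} (hb₂ : IsPBlock 𝔐 b₂) {B : Set (IrrCharacter (GL (Fin n) F))}
    (hB : IsPBlock 𝔐 B)
    (hind : IsInducedBlock 𝔐 (Subgroup.centralizer ({jj e (scl k z, 1)} : Set (GL (Fin n) F)))
      (prodBlk (Subgroup.centralizer ({jj e (scl k z, 1)} : Set (GL (Fin n) F))) (jj e)
        (blockOf 𝔐 (θ₀ : GL (Fin k) E → ℂ)) b₂) B)
    (h₂ : ∀ D₂ : Subgroup (GL (Fin l) F), IsDefectGroup p 𝔐 b₂ D₂ → ∃ A : Subgroup (GL (Fin l) F), A ≤ D₂ ∧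
      (∀ x ∈ A, ∀ y ∈ A, x * y = y * x) ∧ (∀ x ∈ A, x ^ p = 1) ∧ Nat.card A = p ^ w)
    (D : Subgroup (GL (Fin n) F)) (hD : IsDefectGroup p 𝔐 B D) :
    ∃ A : Subgroup (GL (Fin n) F), A ≤ D ∧ (∀ x ∈ A, ∀ y ∈ A, x * y = y * x) ∧ (∀ x ∈ A, x ^ p = 1) ∧
      Nat.card A = p ^ (w + 1) := by
  have hp : p.Prime := h𝔐.1
  have : Fact p.Prime := ⟨hp⟩
  have := isPrime_of_isPModular h𝔐
  have hHr := Cfsg.Agent.H901.Sl.centralizer_jj e z hz1 hgen
  have hinj := Cfsg.Agent.H901.Sl.jj_injective e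
  obtain ⟨D₂, hD₂⟩ := Cfsg.Agent.H648.Dict.exists_isDefectGroup h𝔐 hb₂
  obtain ⟨A₂, hA₂, hcom, hexp, hcard⟩ := h₂ D₂ hD₂
  obtain ⟨c, hc, hcc⟩ := exists_scl hp hz hz1 hk
  have hZp : IsPGroup p (Subgroup.zpowers c) := by
    refine IsPGroup.of_card (n := 1) ?_
    rw [Nat.card_zpowers, hc, pow_one]
  have hZc : Subgroup.zpowers c ≤ Subgroup.center (GL (Fin k) E) := by
    rw [Subgroup.zpowers_le]
    exact Subgroup.mem_center_iff.2 fun g => (hcc g).symm
  have hb₁ := isPBlock_blockOf (M := 𝔐) θ₀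
  obtain ⟨D', hD', hmem⟩ := Cfsg.Agent.H76.GLB.exists_defect_prod h𝔐 hinj hHr hb₁ hb₂ (Subgroup.zpowers c) hZc hZp D₂ hD₂
  have hpb : IsPBlock 𝔐 (prodBlk (Subgroup.centralizer ({jj e (scl k z, 1)} : Set (GL (Fin n) F))) (jj e)
      (blockOf 𝔐 (θ₀ : GL (Fin k) E → ℂ)) b₂) := by
    obtain ⟨χ₂, rfl⟩ := hb₂
    obtain ⟨ψ, hψ⟩ := Cfsg.Agent.H76.GLB.exists_prodChar hinj hHr θ₀ χ₂
    rw [Cfsg.Agent.H76.GLB.prodBlk_blockOf h𝔐 hinj hHr θ₀ χ₂ ψ hψ]
    exact isPBlock_blockOf ψ
  obtain ⟨E', hE', hle⟩ := Cfsg.Agent.S0917.result p 𝔐 h𝔐 _ _ hpb B hB hind D' hD'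
  obtain ⟨x, hx⟩ := Cfsg.Agent.H648.HarrisKnorr.exists_conj_of_isDefectGroup h𝔐 hB hE' hD
  have hinj' : Function.Injective ((MulAut.conj x).toMonoidHom.comp (jj e)) :=
    (MulAut.conj x).injective.comp hinj
  refine ⟨((Subgroup.zpowers c).prod A₂).map ((MulAut.conj x).toMonoidHom.comp (jj e)), ?_, ?_, ?_, ?_⟩
  · rw [← hx]
    rintro _ ⟨y, ⟨hy1, hy2⟩, rfl⟩
    exact ⟨_, hle (hmem y.1 hy1 y.2 (hA₂ hy2)), rfl⟩
  · rintro _ ⟨y, ⟨hy1, hy2⟩, rfl⟩ _ ⟨y', ⟨hy1', hy2'⟩, rfl⟩
    rw [← map_mul, ← map_mul]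
    congr 1
    refine Prod.ext ?_ (hcom _ hy2 _ hy2')
    exact (Subgroup.mem_center_iff.1 (hZc hy1) _).symm
  · rintro _ ⟨y, ⟨hy1, hy2⟩, rfl⟩
    rw [← map_pow]
    have h1 : y ^ p = 1 := by
      refine Prod.ext ?_ (hexp _ hy2)
      rw [Prod.pow_fst, Prod.fst_one, ← hc]
      exact orderOf_dvd_iff_pow_eq_one.1 (orderOf_dvd_of_mem_zpowers hy1)
    rw [h1, map_one]
  · rw [Nat.card_congr (Subgroup.equivMapOfInjective _ _ hinj').symm.toEquiv, Nat.card_congr (Subgroup.prodEquiv _ _).toEquiv,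
      Nat.card_prod, Nat.card_zpowers, hc, hcard, pow_succ, mul_comm]

/-- **GB6 (D4)**: the defect group contains an elementary abelian subgroup of rank the total weight. -/
theorem exists_elab_aux (hctx : Ctx F θ N M) (hpF : p ≠ ringChar F) (h𝔐 : IsPModular p 𝔐) (w : ℕ) :
    ∀ {m n : ℕ}, n ≤ N → n ≤ m → ∀ {B : Set (IrrCharacter (GL (Fin n) F))}, IsPBlock 𝔐 B →
      ∀ {χ : IrrCharacter (GL (Fin n) F)}, χ ∈ B → ∀ {t : LabZ (Nat.card F) M m n}, IsLab θ M m n χ t →
      POnly M p t.t → totW (Nat.card F) M p t.t = w → ∀ D : Subgroup (GL (Fin n) F), IsDefectGroup p 𝔐 B D →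
      ∃ A : Subgroup (GL (Fin n) F), A ≤ D ∧ (∀ x ∈ A, ∀ y ∈ A, x * y = y * x) ∧ (∀ x ∈ A, x ^ p = 1) ∧
        Nat.card A = p ^ w := by
  induction w with
  | zero =>
    intro m n hn hm B hB χ hχ t ht ht' h0 D hD
    refine ⟨⊥, bot_le, ?_, ?_, ?_⟩
    · intro x hx y hy
      rw [Subgroup.mem_bot.1 hx, Subgroup.mem_bot.1 hy]
    · intro x hx
      rw [Subgroup.mem_bot.1 hx, one_pow]
    · rw [Subgroup.card_bot, pow_zero]
  | succ w ih =>
    intro m n hn hm B hB χ hχ t ht ht' h0 D hD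
    obtain ⟨l, k, E, hE1, hE2, hE3, e, z, θ₀, b₂, χ₂, t₂, hln, hk, hpk, hz, hz1, hgen, hcusp, hfix, hb₂, hind, hχ₂, ht₂,
      ht₂p, hw, hSF⟩ := exists_red hctx hpF h𝔐 hn hm hB hχ ht ht' (h0 ▸ Nat.succ_pos w)
    rw [h0] at hw
    exact elab_step h𝔐 e hk hz hz1 hgen θ₀ hb₂ hB hind
      (ih (hln.trans hn) (hln.trans hm) hb₂ hχ₂ ht₂ ht₂p (Nat.succ_injective hw)) D hD

/-- **GB6 (D4)**: the defect group contains an elementary abelian subgroup of rank the total weight. -/
theorem exists_elab (hctx : Ctx F θ N M) (hpF : p ≠ ringChar F) (h𝔐 : IsPModular p 𝔐)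
    {m n : ℕ} (hn : n ≤ N) (hm : n ≤ m) {B : Set (IrrCharacter (GL (Fin n) F))} (hB : IsPBlock 𝔐 B)
    {χ : IrrCharacter (GL (Fin n) F)} (hχ : χ ∈ B) {t : LabZ (Nat.card F) M m n} (ht : IsLab θ M m n χ t)
    (ht' : POnly M p t.t) (D : Subgroup (GL (Fin n) F)) (hD : IsDefectGroup p 𝔐 B D) :
    ∃ A : Subgroup (GL (Fin n) F), A ≤ D ∧ (∀ x ∈ A, ∀ y ∈ A, x * y = y * x) ∧ (∀ x ∈ A, x ^ p = 1) ∧
      Nat.card A = p ^ totW (Nat.card F) M p t.t :=
  exists_elab_aux hctx hpF h𝔐 _ hn hm hB hχ ht ht' rfl D hD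

end Cfsg.Agent.H623.GLn
end
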